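import Cfsg.Agent.H562.FpfWeights

set_option autoImplicit false

namespace Cfsg.Agent.H562.FpfWeights

open Pointwise Module Cfsg.Agent.OddOrderLocal.Thm34Weights

attribute [local instance] wtAction

/-- Glauberman's lemma for a subgroup `A` acting coprimely on a subgroup `T`, both acting on a set. -/
theorem glauberman {Γ X : Type*} [Group Γ] [Finite Γ] [MulAction Γ X] (T A : Subgroup Γ)
    (hA : ∀ a ∈ A, ∀ y ∈ T, a * y * a⁻¹ ∈ T) (hcop : (Nat.card A).Coprime (Nat.card T))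
    (hsol : Group.IsSolvable T) (ψ : X) (h : ∀ a ∈ A, ∃ x ∈ T, a • ψ = x • ψ) :
    ∃ x ∈ T, ∀ a ∈ A, a • x • ψ = x • ψ := by
  classical
  set G' : Subgroup Γ := A ⊔ T with hG'
  have hAT : A ≤ Subgroup.normalizer (T : Set Γ) := by
    intro a ha
    rw [Subgroup.mem_normalizer_iff]
    intro y
    refine ⟨fun hy => hA a ha y hy, fun hy => ?_⟩
    have := hA a⁻¹ (inv_mem ha) _ hy
    have h2 : a⁻¹ * (a * y * a⁻¹) * a⁻¹⁻¹ = y := by group
    rwa [h2] at this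
  let O : Set X := {φ | ∃ x ∈ T, x • ψ = φ}
  have hO : ∀ g ∈ G', ∀ φ ∈ O, g • φ ∈ O := by
    have h1 : G' ≤ MulAction.stabilizer Γ O := by
      apply sup_le
      · intro a ha
        rw [MulAction.mem_stabilizer_set]
        have hkey : ∀ a ∈ A, ∀ φ ∈ O, a • φ ∈ O := by
          rintro a ha φ ⟨x, hx, rfl⟩
          obtain ⟨y, hy, hay⟩ := h a ha
          refine ⟨(a * x * a⁻¹) * y, T.mul_mem (hA a ha x hx) hy, ?_⟩
          rw [mul_smul, ← hay, ← mul_smul, ← mul_smul]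
          congr 1; group
        intro φ
        refine ⟨fun hφ => ?_, fun hφ => hkey a ha φ hφ⟩
        have := hkey a⁻¹ (inv_mem ha) _ hφ
        rwa [inv_smul_smul] at this
      · intro a ha
        rw [MulAction.mem_stabilizer_set]
        have hkey : ∀ a ∈ T, ∀ φ ∈ O, a • φ ∈ O := by
          rintro a ha φ ⟨x, hx, rfl⟩
          exact ⟨a * x, T.mul_mem ha hx, by rw [mul_smul]⟩
        intro φ
        refine ⟨fun hφ => ?_, fun hφ => hkey a ha φ hφ⟩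
        have := hkey a⁻¹ (inv_mem ha) _ hφ
        rwa [inv_smul_smul] at this
    intro g hg φ hφ
    exact ((MulAction.mem_stabilizer_set.1 (h1 hg)) φ).2 hφ
  let act : MulAction G' O :=
    { smul := fun g φ => ⟨(g : Γ) • φ.1, hO g g.2 _ φ.2⟩
      one_smul := fun φ => Subtype.ext (one_smul Γ φ.1)
      mul_smul := fun g g' φ => Subtype.ext (mul_smul (g : Γ) (g' : Γ) φ.1) }
  have hact : ∀ (g : G') (φ : O), (g • φ).1 = (g : Γ) • φ.1 := fun _ _ => rfl
  have hne : Nonempty O := ⟨⟨ψ, 1, T.one_mem, one_smul Γ ψ⟩⟩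
  have hT : T ≤ G' := le_sup_right
  have hAG : A ≤ G' := le_sup_left
  have hn : (T.subgroupOf G').Normal := by
    rw [← Subgroup.normalizer_eq_top_iff, eq_top_iff]
    rintro ⟨g, hg⟩ _
    rw [Subgroup.mem_normalizer_iff]
    rintro ⟨y, hy⟩
    simp only [Subgroup.mem_subgroupOf]
    have hg' : g ∈ Subgroup.normalizer (T : Set Γ) := (sup_le hAT Subgroup.le_normalizer) hg
    rw [Subgroup.mem_normalizer_iff] at hg'
    exact hg' y
  have hdis : Disjoint T A := by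
    rw [disjoint_iff]
    exact (Subgroup.disjoint_of_coprime_natCard hcop.symm).eq_bot
  have hcompl : Subgroup.IsComplement' (T.subgroupOf G') (A.subgroupOf G') := by
    apply Subgroup.isComplement'_of_disjoint_and_mul_eq_univ
    · rw [disjoint_iff, eq_bot_iff]
      rintro ⟨g, hg⟩ ⟨h1, h2⟩
      change g ∈ T at h1
      change g ∈ A at h2
      rw [Subgroup.mem_bot]
      apply Subtype.ext
      exact (Subgroup.mem_bot.1 ((disjoint_iff.1 hdis) ▸ (⟨h1, h2⟩ : g ∈ T ⊓ A)))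
    · rw [Set.eq_univ_iff_forall]
      rintro ⟨g, hg⟩
      have h1 : g ∈ ((A ⊔ T : Subgroup Γ) : Set Γ) := hg
      rw [sup_comm, Subgroup.coe_mul_of_right_le_normalizer_left T A hAT] at h1
      obtain ⟨y, hy, a, ha, rfl⟩ := h1
      exact ⟨⟨y, hT hy⟩, hy, ⟨a, hAG ha⟩, ha, rfl⟩
  have hcop' : (Nat.card (T.subgroupOf G')).Coprime (T.subgroupOf G').index := by
    rw [hcompl.symm.index_eq_card, Nat.card_congr (Subgroup.subgroupOfEquivOfLe hT).toEquiv,
      Nat.card_congr (Subgroup.subgroupOfEquivOfLe hAG).toEquiv]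
    exact hcop.symm
  have hsolT : Group.IsSolvable (T.subgroupOf G') := by
    exact Group.isSolvable_of_isSolvable_injective (f := (Subgroup.subgroupOfEquivOfLe hT).toMonoidHom)
      (Subgroup.subgroupOfEquivOfLe hT).injective
  have htr : MulAction.IsPretransitive (T.subgroupOf G') O := by
    constructor
    rintro ⟨φ, x, hx, rfl⟩ ⟨φ', x', hx', rfl⟩
    refine ⟨⟨⟨x' * x⁻¹, hT (T.mul_mem hx' (T.inv_mem hx))⟩, T.mul_mem hx' (T.inv_mem hx)⟩, ?_⟩
    apply Subtype.ext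
    show (x' * x⁻¹) • x • ψ = x' • ψ
    rw [mul_smul, inv_smul_smul]
  obtain ⟨⟨φ, x, hx, rfl⟩, hφ⟩ := (Cfsg.Agent.S0059.result (T.subgroupOf G') (A.subgroupOf G') hcompl hcop'
    (Or.inl hsolT) htr).1
  refine ⟨x, hx, ?_⟩
  intro a ha
  have := hφ ⟨a, hAG ha⟩ ha
  exact congrArg Subtype.val this


namespace Sit

variable {k : Type*} [Field k] {Γ : Type*} [Group Γ] [Finite Γ] {V : Type*} [AddCommGroup V] [Module k V]
variable {ρ : Representation k Γ V} {Z T F H : Subgroup Γ}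

omit [Finite Γ] in
theorem smul_nontrivial [Z.Normal] {ψ : Z → k} (hψ1 : ∃ z, ψ z ≠ 1) (g : Γ) : ∃ z, (g • ψ) z ≠ 1 := by
  obtain ⟨z, hz⟩ := hψ1
  refine ⟨MulAut.conjNormal g z, ?_⟩
  rw [wt_smul_def, ← MulAut.mul_apply, ← map_mul, inv_mul_cancel, map_one]
  exact hz

/-- `F` and `H` do not both stabilise the `T`-orbit of a nontrivial weight -/
theorem gl (s : Sit ρ Z T F H) [Z.Normal] {ψ : Z → k} (hψ : wt ρ Z ψ ≠ ⊥) (hψ1 : ∃ z, ψ z ≠ 1)
    (hF : ∀ a ∈ F, ∃ x ∈ T, a • ψ = x • ψ) (hH : ∀ a ∈ H, ∃ x ∈ T, a • ψ = x • ψ) : False := by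
  have hA : ∀ a ∈ H ⊔ F, (∀ y ∈ T, a * y * a⁻¹ ∈ T) ∧ ∃ x ∈ T, a • ψ = x • ψ := by
    intro a ha
    have h1 : a ∈ ((H ⊔ F : Subgroup Γ) : Set Γ) := ha
    rw [Subgroup.coe_mul_of_left_le_normalizer_right H F s.le_norm] at h1
    obtain ⟨h, hh, c, hc, rfl⟩ := h1
    constructor
    · intro y hy
      have h2 : h * c * y * (h * c)⁻¹ = h * (c * y * c⁻¹) * h⁻¹ := by group
      have h3 := s.hHT h hh _ (s.hFT c hc y hy)
      simpa [mul_assoc] using h3
    · obtain ⟨x, hx, hcx⟩ := hF c hc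
      obtain ⟨x', hx', hhx⟩ := hH h hh
      refine ⟨h * x * h⁻¹ * x', T.mul_mem (s.hHT h hh x hx) hx', ?_⟩
      show (h * c) • ψ = _
      rw [mul_smul, hcx, mul_smul _ x', ← hhx, ← mul_smul, ← mul_smul]
      congr 1; group
  obtain ⟨x, hx, hfix⟩ := glauberman T (H ⊔ F) (fun a ha => (hA a ha).1) (s.cop_A s.hFTc s.hHTc) s.hTs ψ
    (fun a ha => (hA a ha).2)
  obtain ⟨z, hz⟩ := smul_nontrivial hψ1 x
  apply hz
  apply s.triv_of_fixed (ψ := x • ψ)
  · intro h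
    apply hψ
    rw [eq_bot_iff]
    intro v hv
    have h1 := smul_mem_wt hv x
    rw [h, Submodule.mem_bot] at h1
    rw [Submodule.mem_bot]
    have h2 : ρ x⁻¹ (ρ x v) = v := by
      rw [← End.mul_apply, ← map_mul, inv_mul_cancel, map_one, End.one_apply]
    rw [← h2, h1, map_zero]
  · intro a ha
    exact hfix a (Subgroup.mem_sup_right ha)
  · intro a ha
    exact hfix a (Subgroup.mem_sup_left ha)

omit [Finite Γ] in
theorem smul_ne_bot [Z.Normal] {ψ : Z → k} (hψ : wt ρ Z ψ ≠ ⊥) (g : Γ) : wt ρ Z (g • ψ) ≠ ⊥ := by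
  intro h
  apply hψ
  rw [eq_bot_iff]
  intro v hv
  have h1 := smul_mem_wt hv g
  rw [h, Submodule.mem_bot] at h1
  rw [Submodule.mem_bot]
  have h2 : ρ g⁻¹ (ρ g v) = v := by
    rw [← End.mul_apply, ← map_mul, inv_mul_cancel, map_one, End.one_apply]
  rw [← h2, h1, map_zero]

variable [FiniteDimensional k V]

/-- the dichotomy: if `F` fixes one nontrivial weight then it fixes its whole orbit -/
theorem di (s : Sit ρ Z T F H) [Z.Normal]
    (hdec : ∀ g : Γ, ∃ c ∈ F, ∃ x ∈ T, ∃ h ∈ H, ∀ ψ : Z → k, g • ψ = c • x • h • ψ)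
    {ψ : Z → k} (hψ : wt ρ Z ψ ≠ ⊥) (hψ1 : ∃ z, ψ z ≠ 1)
    (hF : ∀ a ∈ F, a • ψ = ψ) (g : Γ) : ∀ a ∈ F, a • g • ψ = g • ψ := by
  by_contra hcon
  push Not at hcon
  obtain ⟨c, hc, hfix⟩ := s.exists_fixH (smul_ne_bot hψ g) hcon
  obtain ⟨c', hc', x, hx, h, hh, hg⟩ := hdec (c * g)
  have hcg : c • g • ψ = c' • x • h • ψ := by rw [← mul_smul]; exact hg ψ
  have hFh : ∀ a ∈ F, a • h • ψ = h • ψ := by
    intro a ha
    have h1 : a • h • ψ = h • ((h⁻¹ * a * h) • ψ) := by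
      rw [← mul_smul, ← mul_smul]; congr 1; group
    rw [h1, hF _ (s.hHF' h hh a ha)]
  have hcg' : c • g • ψ = (c' * x * c'⁻¹) • h • ψ := by
    rw [hcg]
    conv_rhs => rw [← hFh c' hc']
    rw [← mul_smul, ← mul_smul, ← mul_smul, ← mul_smul]
    congr 1; group
  have hx' : c' * x * c'⁻¹ ∈ T := s.hFT c' hc' x hx
  set x' := c' * x * c'⁻¹ with hx'def
  apply s.gl (ψ := c • g • ψ) (smul_ne_bot (smul_ne_bot hψ g) c)
    (smul_nontrivial (smul_nontrivial hψ1 g) c)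
  · intro a ha
    refine ⟨a * x' * a⁻¹ * x'⁻¹, T.mul_mem (s.hFT a ha x' hx') (T.inv_mem hx'), ?_⟩
    rw [hcg', ← mul_smul (a * x' * a⁻¹ * x'⁻¹), inv_mul_cancel_right]
    conv_rhs => rw [← hFh a ha]
    simp only [← mul_smul]
    congr 1; group
  · intro a ha
    exact ⟨1, T.one_mem, by rw [one_smul]; exact hfix a ha⟩

/-- if `F` fixes no weight in the orbit and `H` fixes `χ`, then `H` fixes the `T`-orbit of `χ` -/
theorem hc (s : Sit ρ Z T F H) [Z.Normal] {χ : Z → k} (hχ : wt ρ Z χ ≠ ⊥) (hχ1 : ∃ z, χ z ≠ 1)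
    (hF : ∀ g : Γ, ∃ a ∈ F, a • g • χ ≠ g • χ) (hH : ∀ h ∈ H, h • χ = χ) {x : Γ} (hx : x ∈ T) :
    ∀ h ∈ H, h • x • χ = x • χ := by
  obtain ⟨c, hc, hfix⟩ := s.exists_fixH (smul_ne_bot hχ x) (hF x)
  intro h hh
  set a : Γ := c⁻¹ * (h * c * h⁻¹) with ha
  have haF : a ∈ F := F.mul_mem (F.inv_mem hc) (s.hHF h hh c hc)
  have h1 : (c⁻¹ * h * c) • x • χ = x • χ := by
    rw [mul_smul, mul_smul, hfix h hh, inv_smul_smul]
  have hb : c⁻¹ * h * c = a * h := by rw [ha]; group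
  by_cases ha1 : a = 1
  · rw [hb, ha1, one_mul] at h1
    exact h1
  exfalso
  rw [hb] at h1
  have hbT : (a * h) * x * (a * h)⁻¹ ∈ T := by
    have h3 := s.hFT a haF _ (s.hHT h hh x hx)
    have h2 : (a * h) * x * (a * h)⁻¹ = a * (h * x * h⁻¹) * a⁻¹ := by group
    rw [h2]; exact h3
  have h4 : (a * h) • x • χ = ((a * h) * x * (a * h)⁻¹) • a • χ := by
    conv_rhs => rw [← hH h hh]
    rw [← mul_smul, ← mul_smul, ← mul_smul]
    congr 1; group
  rw [h4] at h1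
  set y : Γ := ((a * h) * x * (a * h)⁻¹)⁻¹ * x with hy
  have hyT : y ∈ T := T.mul_mem (T.inv_mem hbT) hx
  have h5 : a • χ = y • χ := by
    rw [hy, mul_smul (((a * h) * x * (a * h)⁻¹)⁻¹) x χ, ← h1, inv_smul_smul]
  apply s.gl hχ hχ1
  · intro b hb'
    have hbz := mem_zpowers_of_prime F s.hF haF ha1 hb'
    rw [← mem_powers_iff_mem_zpowers] at hbz
    obtain ⟨n, rfl⟩ := hbz
    have h6 : ∀ n : ℕ, ∃ x ∈ T, (a ^ n) • χ = x • χ := by
      intro n
      induction n with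
      | zero => exact ⟨1, T.one_mem, by rw [pow_zero]⟩
      | succ n ih =>
        obtain ⟨u, hu, hau⟩ := ih
        refine ⟨a * u * a⁻¹ * y, T.mul_mem (s.hFT a haF u hu) hyT, ?_⟩
        rw [pow_succ', mul_smul, hau, mul_smul _ y, ← h5, ← mul_smul, ← mul_smul]
        congr 1; group
    exact h6 n
  · intro b hb'
    exact ⟨1, T.one_mem, by rw [one_smul]; exact hH b hb'⟩

end Sit

end Cfsg.Agent.H562.FpfWeights
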