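import Cfsg.Agent.H562.FpfSetup

/-!
# From an action of a nonabelian group of order `p q` to the setup
-/

set_option autoImplicit false

namespace Cfsg.Agent.H562.FpfFinal

open Cfsg Cfsg.Agent.H562.FpfSetup Cfsg.Agent.H562.FpfWeights

/-- the structure of a nonabelian group of order `f e`, `e < f` -/
theorem exists_FH {A : Type*} [Group A] [Finite A] {f e : ℕ} (hf : f.Prime) (he : e.Prime) (hef : e < f)
    (hA : Nat.card A = f * e) (hAna : ¬ IsMulCommutative A) :
    ∃ F H : Subgroup A, Nat.card F = f ∧ Nat.card H = e ∧ F.Normal ∧ e ∣ f - 1 ∧ F ⊔ H = ⊤ ∧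
      ¬ H ≤ Subgroup.centralizer (F : Set A) := by
  have : Fact f.Prime := ⟨hf⟩
  have : Fact e.Prime := ⟨he⟩
  obtain ⟨F, hF⟩ : ∃ F : Subgroup A, Nat.card F = f := by
    obtain ⟨x, hx⟩ := exists_prime_orderOf_dvd_card' (G := A) f (by rw [hA]; exact dvd_mul_right _ _)
    exact ⟨Subgroup.zpowers x, by rw [Nat.card_zpowers, hx]⟩
  obtain ⟨x, hx⟩ := exists_prime_orderOf_dvd_card' (G := A) e (by rw [hA]; exact dvd_mul_left _ _)
  set H : Subgroup A := Subgroup.zpowers x with hHdef
  have hH : Nat.card H = e := by rw [Nat.card_zpowers, hx]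
  have hidx : F.index = e := by
    have := F.card_mul_index
    rw [hF, hA] at this
    exact Nat.eq_of_mul_eq_mul_left hf.pos this
  have hFn : F.Normal := by
    apply Subgroup.normal_of_index_eq_minFac_card
    rw [hidx, hA]
    symm
    have h1 := Nat.minFac_le_of_dvd he.two_le (dvd_mul_left e f)
    have h2 : (f * e).minFac.Prime := Nat.minFac_prime (by
      have := Nat.mul_le_mul hf.one_lt.le he.two_le
      omega)
    rcases (Nat.Prime.dvd_mul h2).1 (Nat.minFac_dvd (f * e)) with h3 | h3
    · have := (Nat.prime_dvd_prime_iff_eq h2 hf).1 h3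
      omega
    · exact (Nat.prime_dvd_prime_iff_eq h2 he).1 h3
  have hcop : (Nat.card F).Coprime (Nat.card H) := by
    rw [hF, hH]
    exact (Nat.coprime_primes hf he).2 hef.ne'
  have htop : F ⊔ H = ⊤ := by
    apply Subgroup.eq_top_of_le_card
    rw [hA]
    have h1 : Nat.card F ∣ Nat.card (F ⊔ H : Subgroup A) := Subgroup.card_dvd_of_le le_sup_left
    have h2 : Nat.card H ∣ Nat.card (F ⊔ H : Subgroup A) := Subgroup.card_dvd_of_le le_sup_right
    have h3 := hcop.mul_dvd_of_dvd_of_dvd h1 h2
    rw [hF, hH] at h3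
    exact Nat.le_of_dvd Nat.card_pos h3
  have hcyc : IsCyclic F := isCyclic_of_prime_card (p := f) hF
  have hxc : ¬ x ∈ Subgroup.centralizer (F : Set A) := by
    intro hxc
    apply hAna
    have hxF : ∀ a ∈ F, x * a = a * x := by
      intro a ha
      exact (Subgroup.mem_centralizer_iff.1 hxc a ha).symm
    have hFc : ∀ a ∈ F, ∀ b ∈ F, a * b = b * a := by
      intro a ha b hb
      have := hcyc.isMulCommutative
      have h3 : (⟨a, ha⟩ : F) * ⟨b, hb⟩ = ⟨b, hb⟩ * ⟨a, ha⟩ := mul_comm' _ _
      exact congrArg Subtype.val h3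
    have hc1 : F ≤ Subgroup.center A := by
      intro a ha
      rw [Subgroup.mem_center_iff]
      intro g
      have hg : g ∈ F ⊔ H := by rw [htop]; trivial
      have h4 : F ⊔ H ≤ Subgroup.centralizer {a} := by
        apply sup_le
        · intro b hb
          rw [Subgroup.mem_centralizer_singleton_iff]
          exact hFc b hb a ha
        · rw [hHdef, Subgroup.zpowers_le, Subgroup.mem_centralizer_singleton_iff]
          exact hxF a ha
      exact Subgroup.mem_centralizer_singleton_iff.1 (h4 hg)
    have hc2 : H ≤ Subgroup.center A := by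
      rw [hHdef, Subgroup.zpowers_le, Subgroup.mem_center_iff]
      intro g
      have hg : g ∈ F ⊔ H := by rw [htop]; trivial
      have h4 : F ⊔ H ≤ Subgroup.centralizer {x} := by
        apply sup_le
        · intro b hb
          rw [Subgroup.mem_centralizer_singleton_iff]
          exact (hxF b hb).symm
        · rw [hHdef, Subgroup.zpowers_le, Subgroup.mem_centralizer_singleton_iff]
      exact Subgroup.mem_centralizer_singleton_iff.1 (h4 hg)
    have hc : (⊤ : Subgroup A) ≤ Subgroup.center A := by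
      rw [← htop]; exact sup_le hc1 hc2
    refine ⟨⟨fun a b => ?_⟩⟩
    exact (Subgroup.mem_center_iff.1 (hc (Subgroup.mem_top b)) a)
  refine ⟨F, H, hF, hH, hFn, ?_, htop, fun hh => hxc (hh (Subgroup.mem_zpowers x))⟩
  have hcard : Nat.card (MulAut F) = f - 1 := by
    rw [IsCyclic.card_mulAut, hF, Nat.totient_prime hf]
  rw [← hcard]
  have h1 : orderOf (MulAut.conjNormal (H := F) x) ∣ e := by
    rw [← hx]
    exact orderOf_map_dvd _ x
  rcases (Nat.dvd_prime he).1 h1 with h2 | h2
  · exfalso
    rw [orderOf_eq_one_iff] at h2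
    apply hxc
    rw [Subgroup.mem_centralizer_iff]
    intro a ha
    have h3 := DFunLike.congr_fun h2 (⟨a, ha⟩ : F)
    have h4 := congrArg Subtype.val h3
    rw [MulAut.conjNormal_apply] at h4
    have h5 : x * a * x⁻¹ = a := h4
    exact (mul_inv_eq_iff_eq_mul.1 h5).symm
  · rw [← h2]
    exact orderOf_dvd_natCard _

section action

variable {G A : Type*} [Group G] [Finite G] [Group A] [Finite A] [MulDistribMulAction A G]

/-- the semidirect product -/
abbrev Sd (G A : Type*) [Group G] [Group A] [MulDistribMulAction A G] : Type _ :=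
  G ⋊[MulDistribMulAction.toMulAut A G] A

instance : Finite (Sd G A) := Finite.of_equiv _ (SemidirectProduct.equivProd (φ := MulDistribMulAction.toMulAut A G)).symm

/-- the normal subgroup `G` of the semidirect product -/
abbrev Gs (G A : Type*) [Group G] [Group A] [MulDistribMulAction A G] : Subgroup (Sd G A) :=
  (SemidirectProduct.inl : G →* Sd G A).range

instance : (Gs G A).Normal := by
  unfold Gs
  rw [SemidirectProduct.range_inl_eq_ker_rightHom]
  infer_instance

/-- the isomorphism of `G` with its image -/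
noncomputable def eG : G ≃* Gs G A := MonoidHom.ofInjective SemidirectProduct.inl_injective

/-- the hypotheses of the setup -/
theorem hyp {F H : Subgroup A} {f e : ℕ} (hf : f.Prime) (he : e.Prime) (hF : Nat.card F = f)
    (hH : Nat.card H = e) (hFn : F.Normal) (hef : e ∣ f - 1) (htop : F ⊔ H = ⊤)
    (hfG : ¬ f ∣ Nat.card G) (heG : ¬ e ∣ Nat.card G) (hfpf : ∀ g : G, (∀ a : A, a • g = g) → g = 1) :
    Hyp (Gs G A) (F.map SemidirectProduct.inr) (H.map SemidirectProduct.inr) := by
  have hcF : Nat.card (F.map (SemidirectProduct.inr : A →* Sd G A)) = f := by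
    rw [← hF]
    exact Nat.card_congr (F.equivMapOfInjective _ SemidirectProduct.inr_injective).toEquiv.symm
  have hcH : Nat.card (H.map (SemidirectProduct.inr : A →* Sd G A)) = e := by
    rw [← hH]
    exact Nat.card_congr (H.equivMapOfInjective _ SemidirectProduct.inr_injective).toEquiv.symm
  have hcG : Nat.card (Gs G A) = Nat.card G := Nat.card_congr (eG (G := G) (A := A)).toEquiv.symm
  refine ⟨?_, ?_, ?_, ?_, ?_, ?_, ?_⟩
  · rw [hcF]; exact hf
  · rw [hcH]; exact he
  · rw [hcF, hcH]; exact hef
  · rintro _ ⟨h, hh, rfl⟩ _ ⟨a, ha, rfl⟩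
    exact ⟨h * a * h⁻¹, hFn.conj_mem a ha h, by rw [map_mul, map_mul, map_inv]⟩
  · rw [hcF, hcG]; exact hfG
  · rw [hcH, hcG]; exact heG
  · rintro _ ⟨g, rfl⟩ h1 h2
    have hst : ∀ a : A, (SemidirectProduct.inr a : Sd G A) * SemidirectProduct.inl g =
        SemidirectProduct.inl g * SemidirectProduct.inr a → a • g = g := by
      intro a ha
      have h3 := SemidirectProduct.inl_aut (φ := MulDistribMulAction.toMulAut A G) a g
      rw [ha, map_inv, mul_inv_cancel_right] at h3
      exact SemidirectProduct.inl_injective h3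
    have h4 : (⊤ : Subgroup A) ≤ MulAction.stabilizer A g := by
      rw [← htop]
      apply sup_le
      · intro a ha
        exact hst a (h1 _ ⟨a, ha, rfl⟩)
      · intro a ha
        exact hst a (h2 _ ⟨a, ha, rfl⟩)
    rw [hfpf g (fun a => h4 (Subgroup.mem_top a)), map_one]

theorem nilpotent_quot [Group.IsSolvable G] {F H : Subgroup A} {f e : ℕ} (hf : f.Prime) (he : e.Prime)
    (hF : Nat.card F = f)
    (hH : Nat.card H = e) (hFn : F.Normal) (hef : e ∣ f - 1) (htop : F ⊔ H = ⊤)
    (hfG : ¬ f ∣ Nat.card G) (heG : ¬ e ∣ Nat.card G) (hfpf : ∀ g : G, (∀ a : A, a • g = g) → g = 1) :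
    Group.IsNilpotent (G ⧸ fittingSubgroup G) := by
  have h := hyp hf he hF hH hFn hef htop hfG heG hfpf
  have hs : Group.IsSolvable (Gs G A) :=
    Group.isSolvable_of_surjective (f := (eG (G := G) (A := A)).toMonoidHom) (eG (G := G) (A := A)).surjective
  have h1 := h.nilpotent
  exact Group.nilpotent_of_mulEquiv (QuotientGroup.congr (fittingSubgroup G) (fittingSubgroup (Gs G A))
    (eG (G := G) (A := A)) (Cfsg.Agent.Lib.Cores.map_equiv_fittingSubgroup _)).symm

end action

end Cfsg.Agent.H562.FpfFinal
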