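import Cfsg.Agent.H562.FpfFinal
import Cfsg.Agent.H851.P6

/-!
# The symmetric group of degree 3 acting without fixed points
-/

set_option autoImplicit false

namespace Cfsg.Agent.H562.FpfS3

open Cfsg Cfsg.Agent.H562.FpfSetup Cfsg.Agent.H562.FpfThm Cfsg.Agent.Lib.Cores

open Cfsg.Agent.OddOrderLocal.Thm34 in
/-- P6 over an arbitrary field -/
theorem P6_field {k : Type*} [Field k] {Γ : Type*} [Group Γ] [Finite Γ] {V : Type*} [AddCommGroup V] [Module k V]
    [FiniteDimensional k V] (ρ : Representation k Γ V) (Q F H : Subgroup Γ) [Q.Normal] {q : ℕ}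
    (hF : Nat.card F = 3) (hH : Nat.card H = 2) (hHF : H ≤ Subgroup.normalizer (F : Set Γ))
    (hne : ¬ H ≤ Subgroup.centralizer (F : Set Γ)) (hq : q.Prime) (hQ : IsPGroup q Q) (hq2 : q ≠ 2)
    (hq3 : q ≠ 3) (hqk : (q : k) ≠ 0) (h2k : (2 : k) ≠ 0) (h3k : (3 : k) ≠ 0)
    (hCQ : ∀ x ∈ Q, (∀ a ∈ F, a * x = x * a) → (∀ a ∈ H, a * x = x * a) → x = 1)
    (hV : ∀ v : V, (∀ a ∈ F, ρ a v = v) → (∀ a ∈ H, ρ a v = v) → v = 0) :
    ∀ x ∈ Q, ∀ y ∈ Q, ρ (x * y) = ρ (y * x) := by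
  have hcast : ∀ n : ℕ, (n : k) ≠ 0 → (n : AlgebraicClosure k) ≠ 0 := by
    intro n hn h
    apply hn
    have h1 : algebraMap k (AlgebraicClosure k) (n : k) = 0 := by rw [map_natCast, h]
    exact (map_eq_zero _).1 h1
  have hcard : (Nat.card (F ⊔ H : Subgroup Γ) : k) ≠ 0 := by
    intro h
    have hc : Nat.card (H ⊔ F : Subgroup Γ) ∣ Nat.card H * Nat.card F :=
      Cfsg.Agent.OddOrderLocal.DecompBasic.card_sup_dvd hHF
    rw [sup_comm] at h
    obtain ⟨m, hm⟩ := hc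
    have h1 : ((Nat.card H * Nat.card F : ℕ) : k) = 0 := by rw [hm, Nat.cast_mul, h, zero_mul]
    rw [Nat.cast_mul, hH, hF] at h1
    rcases mul_eq_zero.1 h1 with h1 | h1
    · exact h2k (by exact_mod_cast h1)
    · exact h3k (by exact_mod_cast h1)
  have hV' := no_fixed_bc (AlgebraicClosure k) ρ F H hcard hV
  intro x hx y hy
  exact eq_of_bc (Cfsg.Agent.H851.PQ.P6 (bc (AlgebraicClosure k) ρ) Q F H hF hH hHF hne hq hQ hq2 hq3
    (hcast _ hqk) (by have := hcast 2 (by exact_mod_cast h2k); exact_mod_cast this)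
    (by have := hcast 3 (by exact_mod_cast h3k); exact_mod_cast this) hCQ hV' x hx y hy)

open Cfsg.Agent.OddOrderLocal.Thm34 in
/-- P6 for an elementary abelian group -/
theorem P6_elem {Γ : Type*} [Group Γ] [Finite Γ] {M : Type*} [CommGroup M] [Finite M] (r : ℕ)
    [hr : Fact r.Prime] (hM : ∀ m : M, m ^ r = 1) (φ : Γ →* MulAut M) (Q F H : Subgroup Γ) [Q.Normal] {q : ℕ}
    (hF : Nat.card F = 3) (hH : Nat.card H = 2) (hHF : H ≤ Subgroup.normalizer (F : Set Γ))
    (hne : ¬ H ≤ Subgroup.centralizer (F : Set Γ)) (hq : q.Prime) (hQ : IsPGroup q Q) (hq2 : q ≠ 2)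
    (hq3 : q ≠ 3) (hqr : q ≠ r) (h2r : 2 ≠ r) (h3r : 3 ≠ r)
    (hCQ : ∀ x ∈ Q, (∀ a ∈ F, a * x = x * a) → (∀ a ∈ H, a * x = x * a) → x = 1)
    (hV : ∀ m : M, (∀ a ∈ F, φ a m = m) → (∀ a ∈ H, φ a m = m) → m = 1) :
    ∀ x ∈ Q, ∀ y ∈ Q, ∀ m, φ (x * y) m = φ (y * x) m := by
  let _inst : Module (ZMod r) (Additive M) := AddCommGroup.zmodModule (by
    intro a
    exact hM a.toMul)
  have hfinA : Finite (Additive M) := inferInstanceAs (Finite M)
  have hfd : FiniteDimensional (ZMod r) (Additive M) := Module.Finite.of_finite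
  have hpF : ∀ n : ℕ, ¬ r ∣ n → (n : ZMod r) ≠ 0 := by
    intro n hn h
    exact hn ((ZMod.natCast_eq_zero_iff n r).1 h)
  have hnd : ∀ {p : ℕ}, p.Prime → p ≠ r → ¬ r ∣ p := by
    intro p hp hpr h
    exact hpr ((Nat.prime_dvd_prime_iff_eq hr.out hp).1 h).symm
  intro x hx y hy m
  have h1 := @P6_field (ZMod r) _ Γ _ _ (Additive M) _ _inst hfd (elemRep r φ) Q F H _ q hF hH hHF hne hq hQ
    hq2 hq3 (hpF _ (hnd hq hqr)) (by exact_mod_cast hpF 2 (hnd Nat.prime_two h2r))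
    (by exact_mod_cast hpF 3 (hnd Nat.prime_three h3r)) hCQ (fun v h1 h2 => hV v.toMul h1 h2) x hx y hy
  exact LinearMap.congr_fun h1 (Additive.ofMul m)

/-- a finite nilpotent group is commutative if all `O_p` are -/
theorem comm_of_pCore {K : Type*} [Group K] [Finite K] (hK : Group.IsNilpotent K)
    (h : ∀ q : ℕ, q.Prime → ∀ x ∈ pCore q K, ∀ y ∈ pCore q K, x * y = y * x) (a b : K) : a * b = b * a := by
  have htop : (⨆ p : Nat.Primes, pCore (p : ℕ) K) = ⊤ := by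
    rw [← fittingSubgroup_eq_iSup_pCore, fittingSubgroup_eq_top_iff]
    exact hK
  have h1 : ∀ p : Nat.Primes, ∀ x ∈ pCore (p : ℕ) K, ∀ p' : Nat.Primes, ∀ y ∈ pCore (p' : ℕ) K,
      x * y = y * x := by
    intro p x hx p' y hy
    by_cases hpp : p = p'
    · subst hpp
      exact h p p.2 x hx y hy
    · have hp : Fact (p : ℕ).Prime := ⟨p.2⟩
      have hp' : Fact (p' : ℕ).Prime := ⟨p'.2⟩
      have hdis : Disjoint (pCore (p : ℕ) K) (pCore (p' : ℕ) K) := by
        have : (Nat.card (pCore (p : ℕ) K)).Coprime (Nat.card (pCore (p' : ℕ) K)) :=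
          IsPGroup.coprime_card_of_ne (p : ℕ) (p' : ℕ) (fun hh => hpp (Subtype.ext hh)) _ _
            (pCore_isPGroup _) (pCore_isPGroup _)
        exact Subgroup.disjoint_of_coprime_natCard this
      exact (Subgroup.commute_of_normal_of_disjoint _ _ (pCore_normal (G := K) (p : ℕ))
        (pCore_normal (G := K) (p' : ℕ)) hdis x y hx hy).eq
  have h2 : ∀ x : K, (∀ p' : Nat.Primes, ∀ y ∈ pCore (p' : ℕ) K, x * y = y * x) → ∀ y, x * y = y * x := by
    intro x hx y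
    have h3 : (⊤ : Subgroup K) ≤ Subgroup.centralizer {x} := by
      rw [← htop]
      apply iSup_le
      intro p' y hy
      rw [Subgroup.mem_centralizer_singleton_iff]
      exact (hx p' y hy).symm
    exact (Subgroup.mem_centralizer_singleton_iff.1 (h3 (Subgroup.mem_top y))).symm
  apply h2
  intro p' y hy
  exact (h2 y (fun p x hx => h1 p' y hy p x hx) a).symm

variable {Γ : Type*} [Group Γ] [Finite Γ] {G : Subgroup Γ} [G.Normal] {F H : Subgroup Γ}

/-- `G / Fit G` is commutative if `F H` is the symmetric group of degree 3 -/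
theorem comm_quot (h : Hyp G F H) [Group.IsSolvable G] (hF : Nat.card F = 3) (hH : Nat.card H = 2)
    (hne : ¬ H ≤ Subgroup.centralizer (F : Set Γ)) (a b : G ⧸ fittingSubgroup G) : a * b = b * a := by
  set π := QuotientGroup.mk' (N G) with hπ
  have hcF := card_map_of_not_dvd h.hF h.hFG
  have hcH := card_map_of_not_dvd h.hH h.hHG
  have hKn : Group.IsNilpotent (K2 G) := by
    have := h.nilpotent
    exact Group.nilpotent_of_mulEquiv (e G)
  have hcomm : ∀ a b : K2 G, a * b = b * a := by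
    apply comm_of_pCore hKn
    intro q hq x hx y hy
    have : Fact q.Prime := ⟨hq⟩
    by_cases hx1 : x = 1
    · rw [hx1, one_mul, mul_one]
    set Q : Subgroup (Γ ⧸ N G) := (pCore q (K2 G)).map (K2 G).subtype with hQdef
    have hcore : (pCore q (K2 G)).Characteristic := pCore_characteristic q
    have hQn : Q.Normal := inferInstance
    have hQK : Q ≤ K2 G := Subgroup.map_subtype_le _
    have hQ : IsPGroup q Q := (pCore_isPGroup q).map _
    have hxQ : (x : Γ ⧸ N G) ∈ Q := ⟨x, hx, rfl⟩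
    have hyQ : (y : Γ ⧸ N G) ∈ Q := ⟨y, hy, rfl⟩
    have hqG : q ∣ Nat.card G := by
      obtain ⟨n, hn⟩ := IsPGroup.iff_card.1 hQ
      rcases Nat.eq_zero_or_pos n with h0 | h0
      · exfalso
        rw [h0, pow_zero, Subgroup.card_eq_one] at hn
        rw [hn, Subgroup.mem_bot] at hxQ
        exact hx1 (Subtype.ext hxQ)
      · have h2 : q ∣ Nat.card Q := by rw [hn]; exact dvd_pow_self q h0.ne'
        exact (h2.trans (Subgroup.card_dvd_of_le hQK)).trans (card_K2_dvd (G := G))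
    have hneq : ∀ {p : ℕ}, p ∣ Nat.card G → p ≠ 3 ∧ p ≠ 2 :=
      fun hp => ⟨fun hh => h.hFG (hF ▸ hh ▸ hp), fun hh => h.hHG (hH ▸ hh ▸ hp)⟩
    have hHF' : H.map π ≤ Subgroup.normalizer ((F.map π : Subgroup (Γ ⧸ N G)) : Set (Γ ⧸ N G)) := by
      apply Cfsg.Agent.H562.FpfCore.le_normalizer_of_conj
      rintro _ ⟨x, hx, rfl⟩ _ ⟨a, ha, rfl⟩
      exact ⟨x * a * x⁻¹, h.hHF x hx a ha, by rw [map_mul, map_mul, map_inv]⟩
    have hne' : ¬ H.map π ≤ Subgroup.centralizer ((F.map π : Subgroup (Γ ⧸ N G)) : Set (Γ ⧸ N G)) := by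
      intro hle
      apply hne
      intro u hu
      rw [Subgroup.mem_centralizer_iff]
      intro v hv
      have h3 := Subgroup.mem_centralizer_iff.1 (hle ⟨u, hu, rfl⟩) _ ⟨v, hv, rfl⟩
      have h4 : u * v * u⁻¹ * v⁻¹ ∈ N G := by
        rw [← QuotientGroup.eq_one_iff]
        show π (u * v * u⁻¹ * v⁻¹) = 1
        rw [map_mul, map_mul, map_mul, ← h3, map_inv, map_inv, mul_inv_cancel_right, mul_inv_cancel]
      have h5 : u * v * u⁻¹ * v⁻¹ ∈ F := F.mul_mem (h.hHF u hu v hv) (F.inv_mem hv)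
      have h6 : F ⊓ G = ⊥ := by
        apply (Subgroup.disjoint_of_coprime_natCard _).eq_bot
        exact (Nat.Prime.coprime_iff_not_dvd h.hF).2 h.hFG
      have h7 : u * v * u⁻¹ * v⁻¹ ∈ F ⊓ G := ⟨h5, N_le G h4⟩
      rw [h6, Subgroup.mem_bot] at h7
      have h8 : v * u = (u * v * u⁻¹ * v⁻¹)⁻¹ * (u * v) := by group
      rw [h8, h7, inv_one, one_mul]
    have key : x * y * x⁻¹ * y⁻¹ = 1 := by
      have hmem : x * y * x⁻¹ * y⁻¹ ∈ pCore q (K2 G) :=
        (pCore q (K2 G)).mul_mem ((pCore q (K2 G)).mul_mem ((pCore q (K2 G)).mul_mem hx hy) (inv_mem hx))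
          (inv_mem hy)
      apply eq_one_of_phi G hq hmem
      intro r hr hrq hrG v
      have h1 := @P6_elem (Γ ⧸ N G) _ _ (pCore r G ⧸ frattini (pCore r G)) (commV G r) _ r hr (V_pow G r)
        (phi G r) Q (F.map π) (H.map π) hQn q (by rw [hcF, hF]) (by rw [hcH, hH]) hHF' hne' hq hQ
        (hneq hqG).2 (hneq hqG).1 hrq.symm (hneq hrG).2.symm (hneq hrG).1.symm
        (fun z hz => h.fix_K2 (hQK hz)) (h.fix_V r) _ hxQ _ hyQ
      have h2 : phi G r ((x * y * x⁻¹ * y⁻¹ : K2 G) : Γ ⧸ N G) =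
          phi G r ((x : Γ ⧸ N G) * y) * (phi G r ((y : Γ ⧸ N G) * x))⁻¹ := by
        rw [← map_inv, ← map_mul]
        congr 1
        rw [Subgroup.coe_mul, Subgroup.coe_mul, Subgroup.coe_mul, Subgroup.coe_inv, Subgroup.coe_inv]
        group
      have h3 : phi G r ((x : Γ ⧸ N G) * y) = phi G r ((y : Γ ⧸ N G) * x) := MulEquiv.ext h1
      rw [h2, h3, mul_inv_cancel, MulAut.one_apply]
    have h2 : x * y = (x * y * x⁻¹ * y⁻¹) * (y * x) := by group
    rw [h2, key, one_mul]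
  apply (e G).injective
  rw [map_mul, map_mul]
  exact hcomm _ _

end Cfsg.Agent.H562.FpfS3
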