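import Cfsg.Agent.H562.FpfThm
import Cfsg.Agent.H851.P45
import Cfsg.Agent.Lib.FrattiniBasic
import Cfsg.Agent.OddOrderLocal.FrobAct
import Cfsg.Agent.S0023

/-!
# Groups with a group of order `f e` acting without fixed points

`G` a solvable normal subgroup of the finite group `Γ`, `F` and `H` subgroups of prime orders `f` and `e`, `e ∣ f - 1`,
of orders prime to `|G|`, no nontrivial element of `G` centralised by `F` and `H`.
-/

set_option autoImplicit false

namespace Cfsg.Agent.H562.FpfSetup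

open Cfsg Cfsg.Agent.H562.FpfCore Cfsg.Agent.H562.FpfThm Cfsg.Agent.OddOrderLocal.FrobAct
open Cfsg.Agent.Lib.Cores

variable {Γ : Type*} [Group Γ] [Finite Γ] (G : Subgroup Γ) [G.Normal]

/-- the Fitting subgroup of `G` as a subgroup of `Γ` -/
def N : Subgroup Γ := (fittingSubgroup G).map G.subtype

instance N_normal : (N G).Normal := by
  have : (fittingSubgroup G).Characteristic := fittingSubgroup_characteristic
  unfold N
  infer_instance

omit [Finite Γ] [G.Normal] in
theorem N_le : N G ≤ G := Subgroup.map_subtype_le _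

omit [Finite Γ] in
theorem mk_eq_one (x : G) : QuotientGroup.mk' (N G) (x : Γ) = 1 ↔ x ∈ fittingSubgroup G := by
  rw [QuotientGroup.mk'_apply, QuotientGroup.eq_one_iff]
  constructor
  · rintro ⟨y, hy, hyx⟩
    have : y = x := Subtype.ext hyx
    rw [← this]; exact hy
  · intro h
    exact ⟨x, h, rfl⟩

/-- the image of `G` in `Γ / N` -/
def K2 : Subgroup (Γ ⧸ N G) := G.map (QuotientGroup.mk' (N G))

instance K2_normal : (K2 G).Normal :=
  Subgroup.Normal.map inferInstance _ (QuotientGroup.mk'_surjective _)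

/-- the isomorphism of `G / Fit G` with its image -/
noncomputable def e : G ⧸ fittingSubgroup G ≃* K2 G := by
  refine MulEquiv.ofBijective (QuotientGroup.lift (fittingSubgroup G)
    (((QuotientGroup.mk' (N G)).comp G.subtype).codRestrict (K2 G) (fun x => ⟨x, x.2, rfl⟩)) ?_) ⟨?_, ?_⟩
  · intro x hx
    rw [MonoidHom.mem_ker]
    apply Subtype.ext
    exact (mk_eq_one G x).2 hx
  · rw [← MonoidHom.ker_eq_bot_iff, eq_bot_iff]
    intro y hy
    obtain ⟨x, rfl⟩ := QuotientGroup.mk_surjective y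
    rw [MonoidHom.mem_ker] at hy
    have h1 : QuotientGroup.mk' (N G) (x : Γ) = 1 := congrArg Subtype.val hy
    rw [Subgroup.mem_bot, QuotientGroup.eq_one_iff]
    exact (mk_eq_one G x).1 h1
  · rintro ⟨_, x, hx, rfl⟩
    exact ⟨QuotientGroup.mk ⟨x, hx⟩, rfl⟩

omit [Finite Γ] in
theorem e_mk (x : G) : ((e G (QuotientGroup.mk x) : K2 G) : Γ ⧸ N G) = QuotientGroup.mk' (N G) (x : Γ) := rfl

omit [Finite Γ] in
theorem exists_pCore {q : ℕ} {y : K2 G} (hy : y ∈ pCore q (K2 G)) :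
    ∃ x : G, QuotientGroup.mk' (N G) (x : Γ) = y ∧
      QuotientGroup.mk' (fittingSubgroup G) x ∈ pCore q (G ⧸ fittingSubgroup G) := by
  rw [← map_equiv_pCore (e G) q] at hy
  obtain ⟨z, hz, rfl⟩ := hy
  obtain ⟨x, rfl⟩ := QuotientGroup.mk_surjective z
  exact ⟨x, (e_mk G x).symm, hz⟩

variable (r : ℕ)

instance pCore_char : (pCore r G).Characteristic := pCore_characteristic r

instance frat_char : (frattini (pCore r G)).Characteristic := inferInstance

/-- the action of `Γ` on the Frattini quotient of `O_r(G)` -/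
noncomputable def phi0 : Γ →* MulAut (pCore r G ⧸ frattini (pCore r G)) :=
  (quotAut (frattini (pCore r G))).comp ((MulAut.characteristic (pCore r G)).comp MulAut.conjNormal)

omit [Finite Γ] in
theorem phi0_mk (g : Γ) (m : pCore r G) : ∃ m' : pCore r G, ((m' : G) : Γ) = g * ((m : G) : Γ) * g⁻¹ ∧
    phi0 G r g (m : pCore r G ⧸ frattini (pCore r G)) = (m' : pCore r G ⧸ frattini (pCore r G)) := by
  refine ⟨MulAut.characteristic (pCore r G) (MulAut.conjNormal g) m, ?_, rfl⟩
  rfl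

omit [G.Normal] in
theorem V_comm [Fact r.Prime] (u v : pCore r G ⧸ frattini (pCore r G)) : u * v = v * u := by
  obtain ⟨a, rfl⟩ := QuotientGroup.mk_surjective u
  obtain ⟨b, rfl⟩ := QuotientGroup.mk_surjective v
  rw [← QuotientGroup.mk_mul, ← QuotientGroup.mk_mul, QuotientGroup.eq]
  apply Cfsg.Agent.Lib.FrattiniBasic.commutator_le_frattini (pCore_isPGroup (G := G) r)
  have h : (a * b)⁻¹ * (b * a) = b⁻¹ * a⁻¹ * b⁻¹⁻¹ * a⁻¹⁻¹ := by group
  rw [h, commutator_def]
  exact Subgroup.commutator_mem_commutator (Subgroup.mem_top _) (Subgroup.mem_top _)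

omit [G.Normal] in
theorem V_pow [Fact r.Prime] (u : pCore r G ⧸ frattini (pCore r G)) : u ^ r = 1 := by
  obtain ⟨a, rfl⟩ := QuotientGroup.mk_surjective u
  rw [← QuotientGroup.mk_pow, QuotientGroup.eq_one_iff]
  exact Cfsg.Agent.Lib.FrattiniBasic.pow_mem_frattini (pCore_isPGroup (G := G) r) a

/-- the Frattini quotient is commutative -/
@[reducible] noncomputable def commV [Fact r.Prime] : CommGroup (pCore r G ⧸ frattini (pCore r G)) :=
  { (inferInstance : Group (pCore r G ⧸ frattini (pCore r G))) with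
    mul_comm := V_comm G r }

theorem phi0_N [Fact r.Prime] : N G ≤ (phi0 G r).ker := by
  have h1 : fittingSubgroup G ≤ ((phi0 G r).ker).comap G.subtype := by
    rw [fittingSubgroup_eq_iSup_pCore]
    apply iSup_le
    intro p x hx
    have hp : Fact (p : ℕ).Prime := ⟨p.2⟩
    rw [Subgroup.mem_comap, MonoidHom.mem_ker]
    ext v
    obtain ⟨m, rfl⟩ := QuotientGroup.mk_surjective v
    obtain ⟨m', hm', hphi⟩ := phi0_mk G r (G.subtype x) m
    rw [hphi, MulAut.one_apply]
    by_cases hpr : (p : ℕ) = r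
    · have hx' : x ∈ pCore r G := by rw [← hpr]; exact hx
      have h2 : m' = ⟨x, hx'⟩ * m * ⟨x, hx'⟩⁻¹ := by
        apply Subtype.ext
        apply Subtype.ext
        exact hm'
      rw [h2, QuotientGroup.mk_mul, QuotientGroup.mk_mul, V_comm, QuotientGroup.mk_inv, inv_mul_cancel_left]
    · have hdis : Disjoint (pCore (p : ℕ) G) (pCore r G) := by
        rw [disjoint_iff]
        have : (Nat.card (pCore (p : ℕ) G)).Coprime (Nat.card (pCore r G)) :=
          IsPGroup.coprime_card_of_ne (p : ℕ) r hpr _ _ (pCore_isPGroup _) (pCore_isPGroup _)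
        exact (Subgroup.disjoint_of_coprime_natCard this).eq_bot
      have hcomm := Subgroup.commute_of_normal_of_disjoint _ _ (pCore_normal (G := G) (p : ℕ))
        (pCore_normal (G := G) r) hdis x m hx m.2
      have h2 : m' = m := by
        apply Subtype.ext
        apply Subtype.ext
        rw [hm']
        show ((x * (m : G) * x⁻¹ : G) : Γ) = _
        rw [hcomm.eq, mul_inv_cancel_right]
      rw [h2]
  intro x hx
  obtain ⟨y, hy, rfl⟩ := hx
  exact h1 hy

/-- the action of `Γ / N` on the Frattini quotient of `O_r(G)` -/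
noncomputable def phi [Fact r.Prime] : Γ ⧸ N G →* MulAut (pCore r G ⧸ frattini (pCore r G)) :=
  QuotientGroup.lift (N G) (phi0 G r) (fun _ hx => phi0_N G r hx)

theorem phi_mk [Fact r.Prime] (g : Γ) : phi G r (QuotientGroup.mk' (N G) g) = phi0 G r g := rfl

/-- a `q`-element modulo `Fit G` acting trivially on all the Frattini quotients -/
theorem eq_one_of_phi [Group.IsSolvable G] {q : ℕ} (hq : q.Prime) {y : K2 G} (hy : y ∈ pCore q (K2 G))
    (h : ∀ r : ℕ, ∀ hr : Fact r.Prime, r ≠ q → r ∣ Nat.card G → ∀ v, phi G r (y : Γ ⧸ N G) v = v) :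
    y = 1 := by
  obtain ⟨x, hxy, hx⟩ := exists_pCore G hy
  apply Subtype.ext
  rw [← hxy, OneMemClass.coe_one, mk_eq_one]
  apply Cfsg.Agent.H851.PQ.P5 hq x hx
  intro r hr hrq m hm
  have hr' : Fact r.Prime := ⟨hr⟩
  by_cases hrG : r ∣ Nat.card G
  · have h1 := h r hr' hrq hrG (QuotientGroup.mk ⟨m, hm⟩)
    rw [← hxy, phi_mk] at h1
    obtain ⟨m', hm', hphi⟩ := phi0_mk G r x ⟨m, hm⟩
    rw [hphi, eq_comm, QuotientGroup.eq] at h1
    have h2 := (frattini (pCore r G)).mul_mem h1 (one_mem _)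
    have hn : (frattini (pCore r G)).Normal := inferInstance
    have h3 := hn.conj_mem _ h1 ⟨m, hm⟩
    refine ⟨_, h3, ?_⟩
    apply Subtype.ext
    have h4 : (((⟨m, hm⟩ * (⟨m, hm⟩⁻¹ * m') * ⟨m, hm⟩⁻¹ : pCore r G) : G) : Γ) =
      (m : Γ) * ((m : Γ)⁻¹ * ((m' : G) : Γ)) * (m : Γ)⁻¹ := rfl
    show (((⟨m, hm⟩ * (⟨m, hm⟩⁻¹ * m') * ⟨m, hm⟩⁻¹ : pCore r G) : G) : Γ) = _
    rw [h4, hm', Subgroup.coe_mul, Subgroup.coe_mul, Subgroup.coe_mul]
    simp only [Subgroup.coe_inv]
    group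
  · have hm1 : m = 1 := by
      have h1 : Nat.card (pCore r G) = 1 := by
        obtain ⟨n, hn⟩ := IsPGroup.iff_card.1 (pCore_isPGroup (G := G) r)
        rcases Nat.eq_zero_or_pos n with h0 | h0
        · rw [hn, h0, pow_zero]
        · exfalso
          apply hrG
          have h2 : r ∣ Nat.card (pCore r G) := by rw [hn]; exact dvd_pow_self r h0.ne'
          exact h2.trans (Subgroup.card_subgroup_dvd_card _)
      rw [Subgroup.card_eq_one] at h1
      rw [h1, Subgroup.mem_bot] at hm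
      exact hm
    rw [hm1]
    simp [one_mem]

/-- the hypotheses on `F` and `H` -/
structure Hyp (G F H : Subgroup Γ) : Prop where
  hF : (Nat.card F).Prime
  hH : (Nat.card H).Prime
  hef : Nat.card H ∣ Nat.card F - 1
  hHF : ∀ h ∈ H, ∀ a ∈ F, h * a * h⁻¹ ∈ F
  hFG : ¬ Nat.card F ∣ Nat.card G
  hHG : ¬ Nat.card H ∣ Nat.card G
  hfix : ∀ x ∈ G, (∀ a ∈ F, a * x = x * a) → (∀ a ∈ H, a * x = x * a) → x = 1

variable {G} {F H : Subgroup Γ}

omit [Finite Γ] in
theorem map_sub_normal {K : Subgroup G} [K.Characteristic] : (K.map G.subtype).Normal := inferInstance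

/-- fixed points of `F` and `H` on a section of `G` -/
theorem Hyp.fix_mod (h : Hyp G F H) [Group.IsSolvable G] {Q D : Subgroup Γ} (hQG : Q ≤ G) (hDQ : D ≤ Q)
    [Q.Normal] [D.Normal] {y : Γ} (hy : y ∈ Q) (h1 : ∀ a ∈ F, a * y * a⁻¹ * y⁻¹ ∈ D)
    (h2 : ∀ a ∈ H, a * y * a⁻¹ * y⁻¹ ∈ D) : y ∈ D := by
  have hQs : Group.IsSolvable Q :=
    Group.isSolvable_of_isSolvable_injective (f := Subgroup.inclusion hQG) (Subgroup.inclusion_injective hQG)
  have hdQ : Nat.card Q ∣ Nat.card G := Subgroup.card_dvd_of_le hQG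
  apply fixA_gen (F := F) (H := H) (Q := Q) (le_top.trans_eq Q.normalizer_eq_top.symm)
    (le_top.trans_eq Q.normalizer_eq_top.symm) (le_normalizer_of_conj h.hHF)
    ((Nat.Prime.coprime_iff_not_dvd h.hF).2 (fun hd => h.hFG (hd.trans hdQ)))
    ((Nat.Prime.coprime_iff_not_dvd h.hH).2 (fun hd => h.hHG (hd.trans hdQ))) hQs hDQ
    (le_top.trans_eq D.normalizer_eq_top.symm)
    (fun a _ y hy => Subgroup.Normal.conj_mem inferInstance y hy a)
    (fun a _ y hy => Subgroup.Normal.conj_mem inferInstance y hy a)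
    (fun x hx => h.hfix x (hQG hx)) hy h1 h2

/-- no fixed points in the Frattini quotients -/
theorem Hyp.fix_V (h : Hyp G F H) [Group.IsSolvable G] (r : ℕ) [Fact r.Prime]
    (v : pCore r G ⧸ frattini (pCore r G)) (hF : ∀ a ∈ F.map (QuotientGroup.mk' (N G)), phi G r a v = v)
    (hH : ∀ a ∈ H.map (QuotientGroup.mk' (N G)), phi G r a v = v) : v = 1 := by
  obtain ⟨m, rfl⟩ := QuotientGroup.mk_surjective v
  rw [QuotientGroup.eq_one_iff]
  let M : Subgroup Γ := (pCore r G).map G.subtype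
  let L : Subgroup G := (frattini (pCore r G)).map (pCore r G).subtype
  have hLc : L.Characteristic := inferInstance
  let D : Subgroup Γ := L.map G.subtype
  have hDn : D.Normal := inferInstance
  have hMn : M.Normal := inferInstance
  have hDM : D ≤ M := Subgroup.map_mono (Subgroup.map_subtype_le _)
  have hMG : M ≤ G := Subgroup.map_subtype_le _
  have hstep : ∀ a : Γ, phi0 G r a (QuotientGroup.mk m) = QuotientGroup.mk m →
      a * ((m : G) : Γ) * a⁻¹ * ((m : G) : Γ)⁻¹ ∈ D := by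
    intro a ha
    obtain ⟨m', hm', hphi⟩ := phi0_mk G r a m
    rw [hphi, eq_comm, QuotientGroup.eq] at ha
    have hn : (frattini (pCore r G)).Normal := inferInstance
    have h3 := hn.conj_mem _ ha m
    refine ⟨_, ⟨_, h3, rfl⟩, ?_⟩
    have h4 : (((m * (m⁻¹ * m') * m⁻¹ : pCore r G) : G) : Γ) =
      ((m : G) : Γ) * (((m : G) : Γ)⁻¹ * ((m' : G) : Γ)) * ((m : G) : Γ)⁻¹ := rfl
    show (((m * (m⁻¹ * m') * m⁻¹ : pCore r G) : G) : Γ) = _
    rw [h4, hm']
    group
  have hmem : ((m : G) : Γ) ∈ D := by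
    apply h.fix_mod hMG hDM (y := ((m : G) : Γ)) ⟨m, m.2, rfl⟩
    · intro a ha
      apply hstep
      rw [← phi_mk]
      exact hF _ ⟨a, ha, rfl⟩
    · intro a ha
      apply hstep
      rw [← phi_mk]
      exact hH _ ⟨a, ha, rfl⟩
  obtain ⟨_, ⟨m', hm', rfl⟩, hmm⟩ := hmem
  have : m' = m := Subtype.ext (Subtype.ext hmm)
  rw [← this]
  exact hm'

/-- no fixed points in `G / Fit G` -/
theorem Hyp.fix_K2 (h : Hyp G F H) [Group.IsSolvable G] {y : Γ ⧸ N G} (hy : y ∈ K2 G)
    (hF : ∀ a ∈ F.map (QuotientGroup.mk' (N G)), a * y = y * a)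
    (hH : ∀ a ∈ H.map (QuotientGroup.mk' (N G)), a * y = y * a) : y = 1 := by
  obtain ⟨x, hx, rfl⟩ := hy
  rw [QuotientGroup.mk'_apply, QuotientGroup.eq_one_iff]
  have hcommut : ∀ a : Γ, QuotientGroup.mk' (N G) a * QuotientGroup.mk' (N G) x =
      QuotientGroup.mk' (N G) x * QuotientGroup.mk' (N G) a → a * x * a⁻¹ * x⁻¹ ∈ N G := by
    intro a h
    rw [← QuotientGroup.eq_one_iff]
    show (QuotientGroup.mk' (N G)) (a * x * a⁻¹ * x⁻¹) = 1
    rw [map_mul, map_mul, map_mul, h, map_inv, map_inv, mul_inv_cancel_right, mul_inv_cancel]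
  apply h.fix_mod le_rfl (N_le G) hx
  · intro a ha
    exact hcommut a (hF _ ⟨a, ha, rfl⟩)
  · intro a ha
    exact hcommut a (hH _ ⟨a, ha, rfl⟩)

omit [Finite Γ] in
theorem card_K2_dvd : Nat.card (K2 G) ∣ Nat.card G := Subgroup.card_map_dvd _ _

theorem card_map_of_not_dvd {A : Subgroup Γ} (hA : (Nat.card A).Prime) (hAG : ¬ Nat.card A ∣ Nat.card G) :
    Nat.card (A.map (QuotientGroup.mk' (N G))) = Nat.card A := by
  have hdiv : Nat.card (A.map (QuotientGroup.mk' (N G))) ∣ Nat.card A := Subgroup.card_map_dvd _ _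
  rcases (Nat.dvd_prime hA).1 hdiv with h | h
  · exfalso
    rw [Subgroup.card_eq_one, Subgroup.map_eq_bot_iff, QuotientGroup.ker_mk'] at h
    exact hAG ((Subgroup.card_dvd_of_le h).trans (Subgroup.card_dvd_of_le (N_le G)))
  · exact h

/-- `G / Fit G` is nilpotent -/
theorem Hyp.nilpotent (h : Hyp G F H) [Group.IsSolvable G] : Group.IsNilpotent (G ⧸ fittingSubgroup G) := by
  set π := QuotientGroup.mk' (N G) with hπ
  have hKs : Group.IsSolvable (K2 G) :=
    Group.isSolvable_of_surjective (f := π.subgroupMap G) (π.subgroupMap_surjective G)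
  have hcF := card_map_of_not_dvd h.hF h.hFG
  have hcH := card_map_of_not_dvd h.hH h.hHG
  have hHF' : ∀ x ∈ H.map π, ∀ a ∈ F.map π, x * a * x⁻¹ ∈ F.map π := by
    rintro _ ⟨x, hx, rfl⟩ _ ⟨a, ha, rfl⟩
    exact ⟨x * a * x⁻¹, h.hHF x hx a ha, by rw [map_mul, map_mul, map_inv]⟩
  have hcopA : (Nat.card (H.map π ⊔ F.map π : Subgroup (Γ ⧸ N G))).Coprime (Nat.card (K2 G)) := by
    have hc : Nat.card (H.map π ⊔ F.map π : Subgroup (Γ ⧸ N G)) ∣ Nat.card (H.map π) * Nat.card (F.map π) :=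
      Cfsg.Agent.OddOrderLocal.DecompBasic.card_sup_dvd (le_normalizer_of_conj hHF')
    rw [hcF, hcH] at hc
    apply Nat.Coprime.coprime_dvd_left hc
    apply Nat.Coprime.coprime_dvd_right (card_K2_dvd (G := G))
    exact Nat.Coprime.mul_left ((Nat.Prime.coprime_iff_not_dvd h.hH).2 h.hHG)
      ((Nat.Prime.coprime_iff_not_dvd h.hF).2 h.hFG)
  have hK : Group.IsNilpotent (K2 G) := by
    apply Cfsg.Agent.H851.PQ.P4
    intro q t hq ht hqt
    have : Fact q.Prime := ⟨hq⟩
    have : Fact t.Prime := ⟨ht⟩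
    obtain ⟨T₀, hT₀⟩ := Cfsg.Agent.S0023.result (H.map π ⊔ F.map π) (K2 G)
      (le_top.trans_eq (K2 G).normalizer_eq_top.symm) hcopA (Or.inr hKs) t
    refine ⟨T₀, ?_⟩
    set Q : Subgroup (Γ ⧸ N G) := (pCore q (K2 G)).map (K2 G).subtype with hQdef
    set T : Subgroup (Γ ⧸ N G) := (T₀ : Subgroup (K2 G)).map (K2 G).subtype with hTdef
    have hcore : (pCore q (K2 G)).Characteristic := pCore_characteristic q
    have hQn : Q.Normal := inferInstance
    have hQK : Q ≤ K2 G := Subgroup.map_subtype_le _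
    have hTK : T ≤ K2 G := Subgroup.map_subtype_le _
    have hQ : IsPGroup q Q := (pCore_isPGroup q).map _
    have hT : IsPGroup t T := T₀.isPGroup'.map _
    intro x hx y hy
    -- trivial cases
    have htriv : ∀ {p : ℕ} {B : Subgroup (Γ ⧸ N G)}, p.Prime → IsPGroup p B → B ≤ K2 G → ∀ {z}, z ∈ B → z ≠ 1 →
        p ∣ Nat.card G := by
      intro p B hp hB hBK z hz hz1
      have : Fact p.Prime := ⟨hp⟩
      obtain ⟨n, hn⟩ := IsPGroup.iff_card.1 hB
      rcases Nat.eq_zero_or_pos n with h0 | h0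
      · exfalso
        rw [h0, pow_zero, Subgroup.card_eq_one] at hn
        rw [hn, Subgroup.mem_bot] at hz
        exact hz1 hz
      · have h2 : p ∣ Nat.card B := by rw [hn]; exact dvd_pow_self p h0.ne'
        exact (h2.trans (Subgroup.card_dvd_of_le hBK)).trans (card_K2_dvd (G := G))
    by_cases hx1 : x = 1
    · rw [hx1, one_mul, mul_one]
    by_cases hy1 : y = 1
    · rw [hy1, one_mul, mul_one]
    have hxQ : (x : Γ ⧸ N G) ∈ Q := ⟨x, hx, rfl⟩
    have hyT : (y : Γ ⧸ N G) ∈ T := ⟨y, hy, rfl⟩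
    have hqG : q ∣ Nat.card G := htriv hq hQ hQK hxQ (fun hh => hx1 (Subtype.ext hh))
    have htG : t ∣ Nat.card G := htriv ht hT hTK hyT (fun hh => hy1 (Subtype.ext hh))
    have hnorm : ∀ a ∈ H.map π ⊔ F.map π, ∀ z ∈ T, a * z * a⁻¹ ∈ T := by
      intro a ha z hz
      exact (Subgroup.mem_normalizer_iff.1 (hT₀ ha) z).1 hz
    have hQconj : ∀ a : Γ ⧸ N G, ∀ z ∈ Q, a * z * a⁻¹ ∈ Q := fun a z hz =>
      Subgroup.Normal.conj_mem hQn z hz a
    have key : x * y * x⁻¹ * y⁻¹ = 1 := by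
      have hmem : x * y * x⁻¹ * y⁻¹ ∈ pCore q (K2 G) := by
        have h1 : x * y * x⁻¹ * y⁻¹ = x * (y * x⁻¹ * y⁻¹) := by group
        rw [h1]
        exact (pCore q (K2 G)).mul_mem hx
          ((pCore_normal (G := K2 G) q).conj_mem _ (inv_mem hx) y)
      apply eq_one_of_phi G hq hmem
      intro r hr hrq hrG v
      have hneq : ∀ {p : ℕ}, p ∣ Nat.card G → p ≠ Nat.card F ∧ p ≠ Nat.card H :=
        fun hp => ⟨fun hh => h.hFG (hh ▸ hp), fun hh => h.hHG (hh ▸ hp)⟩
      have hcomm := commV G r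
      exact @thmR_elem (Γ ⧸ N G) _ _ (pCore r G ⧸ frattini (pCore r G)) (commV G r) _ r hr (V_pow G r)
        (phi G r) Q T (F.map π) (H.map π) q t hq ht hqt (by rw [hcF]; exact h.hF) (by rw [hcH]; exact h.hH)
        (by rw [hcF, hcH]; exact h.hef) hHF' (by rw [hcF]; exact (hneq hqG).1) (by rw [hcH]; exact (hneq hqG).2)
        (by rw [hcF]; exact (hneq htG).1) (by rw [hcH]; exact (hneq htG).2) hrq.symm
        (by rw [hcH]; exact (hneq hrG).2.symm) (by rw [hcF]; exact (hneq hrG).1.symm) hQ hT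
        (fun a _ => hQconj a) (fun a _ => hQconj a) (fun a _ => hQconj a)
        (fun a ha => hnorm a (Subgroup.mem_sup_right ha)) (fun a ha => hnorm a (Subgroup.mem_sup_left ha))
        (fun z hz => h.fix_K2 (hQK hz)) (fun z hz => h.fix_K2 (hTK hz)) (h.fix_V r) _
        (Subgroup.commutator_mem_commutator hxQ hyT) v
    have h2 : x * y = (x * y * x⁻¹ * y⁻¹) * (y * x) := by group
    rw [h2, key, one_mul]
  exact Group.nilpotent_of_mulEquiv (e G).symm

end Cfsg.Agent.H562.FpfSetup
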