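import Cfsg.Agent.H562.FpfCore

/-!
# Theorem R

`A = F H`, `|F| = f`, `|H| = e ∣ f - 1`, acting on a `q`-group `Q`, a `t`-group `T` normalising `Q` and a
representation without nontrivial common fixed points.  Then `[Q, T]` is in the kernel of the representation.
-/

set_option autoImplicit false

namespace Cfsg.Agent.H562.FpfThm

open Module Cfsg.Agent.H562.FpfCore

/-- fixed points modulo an invariant normal subgroup -/
theorem fixA_gen {Γ : Type*} [Group Γ] [Finite Γ] {Q F H D : Subgroup Γ}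
    (hFQn : F ≤ Subgroup.normalizer (Q : Set Γ)) (hHQn : H ≤ Subgroup.normalizer (Q : Set Γ))
    (hHF : H ≤ Subgroup.normalizer (F : Set Γ))
    (hFQ : (Nat.card F).Coprime (Nat.card Q)) (hHQ : (Nat.card H).Coprime (Nat.card Q))
    (hQs : Group.IsSolvable Q) (hDQ : D ≤ Q) (hQD : Q ≤ Subgroup.normalizer (D : Set Γ))
    (hFD : ∀ a ∈ F, ∀ y ∈ D, a * y * a⁻¹ ∈ D) (hHD : ∀ a ∈ H, ∀ y ∈ D, a * y * a⁻¹ ∈ D)
    (hCQ : ∀ x ∈ Q, (∀ a ∈ F, a * x = x * a) → (∀ a ∈ H, a * x = x * a) → x = 1) {y : Γ} (hy : y ∈ Q)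
    (h1 : ∀ a ∈ F, a * y * a⁻¹ * y⁻¹ ∈ D) (h2 : ∀ a ∈ H, a * y * a⁻¹ * y⁻¹ ∈ D) : y ∈ D := by
  have hHFD : H ⊔ F ≤ Subgroup.normalizer (D : Set Γ) :=
    sup_le (le_normalizer_of_conj hHD) (le_normalizer_of_conj hFD)
  have hcop : (Nat.card (H ⊔ F : Subgroup Γ)).Coprime (Nat.card Q) := by
    have hc : Nat.card (H ⊔ F : Subgroup Γ) ∣ Nat.card H * Nat.card F :=
      Cfsg.Agent.OddOrderLocal.DecompBasic.card_sup_dvd hHF
    apply Nat.Coprime.coprime_dvd_left hc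
    exact Nat.Coprime.mul_left hHQ hFQ
  obtain ⟨z, hz, hyz⟩ := Cfsg.Agent.S0022.result (H ⊔ F) Q (sup_le hHQn hFQn)
    hcop (Or.inr hQs) D hDQ hQD hHFD y hy (by
      intro a ha
      have h3 : a ∈ ((H ⊔ F : Subgroup Γ) : Set Γ) := ha
      rw [Subgroup.coe_mul_of_left_le_normalizer_right H F hHF] at h3
      obtain ⟨h, hh, b, hb, rfl⟩ := h3
      have h4 : h * b * y * (h * b)⁻¹ * y⁻¹ = h * (b * y * b⁻¹ * y⁻¹) * h⁻¹ * (h * y * h⁻¹ * y⁻¹) := by group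
      show h * b * y * (h * b)⁻¹ * y⁻¹ ∈ D
      rw [h4]
      exact D.mul_mem (hHD h hh _ (h1 b hb)) (h2 h hh))
  have hz1 : z = 1 := by
    apply hCQ z hz.1
    · intro a ha
      exact Subgroup.mem_centralizer_iff.1 hz.2 a (Subgroup.mem_sup_right ha)
    · intro a ha
      exact Subgroup.mem_centralizer_iff.1 hz.2 a (Subgroup.mem_sup_left ha)
  rw [hz1, mul_one] at hyz
  exact inv_mem_iff.1 hyz

theorem card_map_prime {Γ Γ' : Type*} [Group Γ] [Group Γ'] [Finite Γ] (π : Γ →* Γ') {F : Subgroup Γ}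
    (hF : (Nat.card F).Prime) {q : ℕ} (hq : q.Prime) (hqf : q ≠ Nat.card F) {Q : Subgroup Γ}
    (hQ : IsPGroup q Q) (hker : π.ker ≤ Q) : Nat.card (F.map π) = Nat.card F := by
  have hdiv : Nat.card (F.map π) ∣ Nat.card F := Subgroup.card_map_dvd _ π
  rcases (Nat.dvd_prime hF).1 hdiv with h | h
  · exfalso
    rw [Subgroup.card_eq_one, Subgroup.map_eq_bot_iff] at h
    have h1 := (Subgroup.card_dvd_of_le (h.trans hker))
    exact not_dvd_card hq hF hqf hQ le_rfl h1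
  · exact h

/-- reduction to the case where `ρ` is faithful on `Q` -/
theorem red1 {k : Type*} [Field k] [IsAlgClosed k] {Γ : Type*} [Group Γ] [Finite Γ] {V : Type*}
    [AddCommGroup V] [Module k V] [FiniteDimensional k V]
    (ρ : Representation k Γ V) (Q T F H : Subgroup Γ) [Q.Normal] {q t : ℕ}
    (hq : q.Prime) (ht : t.Prime) (hqt : q ≠ t) (hQ : IsPGroup q Q) (hT : IsPGroup t T)
    (hF : (Nat.card F).Prime) (hH : (Nat.card H).Prime) (hef : Nat.card H ∣ Nat.card F - 1)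
    (hHF : ∀ h ∈ H, ∀ a ∈ F, h * a * h⁻¹ ∈ F) (hFT : ∀ a ∈ F, ∀ y ∈ T, a * y * a⁻¹ ∈ T)
    (hHT : ∀ a ∈ H, ∀ y ∈ T, a * y * a⁻¹ ∈ T) (hqf : q ≠ Nat.card F) (hqe : q ≠ Nat.card H)
    (htf : t ≠ Nat.card F) (hte : t ≠ Nat.card H) (hqk : (q : k) ≠ 0) (hek : (Nat.card H : k) ≠ 0)
    (hfk : (Nat.card F : k) ≠ 0)
    (hCQ : ∀ x ∈ Q, (∀ a ∈ F, a * x = x * a) → (∀ a ∈ H, a * x = x * a) → x = 1)
    (hCT : ∀ x ∈ T, (∀ a ∈ F, a * x = x * a) → (∀ a ∈ H, a * x = x * a) → x = 1)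
    (hV : ∀ v : V, (∀ a ∈ F, ρ a v = v) → (∀ a ∈ H, ρ a v = v) → v = 0)
    (hgen : Q ⊔ (T ⊔ (F ⊔ H)) = ⊤) (hQT : ⁅Q, T⁆ = Q)
    (hminT : ∀ T₁ : Subgroup Γ, T₁ ≤ T → T₁ ≠ T → (∀ a ∈ F, ∀ y ∈ T₁, a * y * a⁻¹ ∈ T₁) →
      (∀ a ∈ H, ∀ y ∈ T₁, a * y * a⁻¹ ∈ T₁) → ∀ y ∈ ⁅Q, T₁⁆, ρ y = 1)
    (hminQ : ∀ Q₁ : Subgroup Γ, Q₁ ≤ Q → Q₁ ≠ Q → Q₁.Normal → ∀ y ∈ ⁅Q₁, T⁆, ρ y = 1)
    (hne : ∃ y ∈ Q, ρ y ≠ 1) : False := by
  have hN₀n : (Q ⊓ MonoidHom.ker ρ).Normal := inferInstance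
  set N₀ : Subgroup Γ := Q ⊓ MonoidHom.ker ρ with hN₀
  have hN₀Q : N₀ ≤ Q := inf_le_left
  let ρ₂ : Representation k (Γ ⧸ N₀) V := QuotientGroup.lift N₀ ρ (fun y hy => hy.2)
  let π : Γ →* Γ ⧸ N₀ := QuotientGroup.mk' N₀
  have hρ₂ : ∀ g, ρ₂ (π g) = ρ g := fun g => rfl
  have hπs : Function.Surjective π := QuotientGroup.mk'_surjective N₀
  have hπk : π.ker = N₀ := QuotientGroup.ker_mk' N₀
  have hπ1 : ∀ g, π g = 1 ↔ g ∈ N₀ := fun g => by rw [← MonoidHom.mem_ker, hπk]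
  have hcF : Nat.card (F.map π) = Nat.card F := card_map_prime π hF hq hqf hQ (hπk.le.trans hN₀Q)
  have hcH : Nat.card (H.map π) = Nat.card H := card_map_prime π hH hq hqe hQ (hπk.le.trans hN₀Q)
  have hQ₂n : (Q.map π).Normal := Subgroup.Normal.map inferInstance π hπs
  have hFQ : (Nat.card F).Coprime (Nat.card Q) :=
    (Nat.Prime.coprime_iff_not_dvd hF).2 (not_dvd_card hq hF hqf hQ le_rfl)
  have hHQ : (Nat.card H).Coprime (Nat.card Q) :=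
    (Nat.Prime.coprime_iff_not_dvd hH).2 (not_dvd_card hq hH hqe hQ le_rfl)
  have : Fact q.Prime := ⟨hq⟩
  have : Fact t.Prime := ⟨ht⟩
  have hTQ : (Nat.card T).Coprime (Nat.card Q) := IsPGroup.coprime_card_of_ne t q hqt.symm T Q hT hQ
  have hcommut : ∀ a y : Γ, π a * π y = π y * π a → a * y * a⁻¹ * y⁻¹ ∈ N₀ := by
    intro a y h
    rw [← hπ1, map_mul, map_mul, map_mul, h, map_inv, map_inv, mul_inv_cancel_right, mul_inv_cancel]
  have c : Core ρ₂ (Q.map π) (T.map π) (F.map π) (H.map π) q t :=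
    { hq := hq
      ht := ht
      hqt := hqt
      hQ := hQ.map π
      hT := hT.map π
      hF := by rw [hcF]; exact hF
      hH := by rw [hcH]; exact hH
      hef := by rw [hcF, hcH]; exact hef
      hHF := by
        rintro _ ⟨h, hh, rfl⟩ _ ⟨a, ha, rfl⟩
        exact ⟨h * a * h⁻¹, hHF h hh a ha, by rw [map_mul, map_mul, map_inv]⟩
      hFT := by
        rintro _ ⟨h, hh, rfl⟩ _ ⟨a, ha, rfl⟩
        exact ⟨h * a * h⁻¹, hFT h hh a ha, by rw [map_mul, map_mul, map_inv]⟩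
      hHT := by
        rintro _ ⟨h, hh, rfl⟩ _ ⟨a, ha, rfl⟩
        exact ⟨h * a * h⁻¹, hHT h hh a ha, by rw [map_mul, map_mul, map_inv]⟩
      hqf := by rw [hcF]; exact hqf
      hqe := by rw [hcH]; exact hqe
      htf := by rw [hcF]; exact htf
      hte := by rw [hcH]; exact hte
      hqk := hqk
      hek := by rw [hcH]; exact hek
      hfk := by rw [hcF]; exact hfk
      hCQ := by
        rintro _ ⟨y, hy, rfl⟩ h1 h2
        rw [hπ1]
        apply fixA_gen (F := F) (H := H) (Q := Q) (le_top.trans_eq Q.normalizer_eq_top.symm)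
          (le_top.trans_eq Q.normalizer_eq_top.symm) (le_normalizer_of_conj hHF) hFQ hHQ
          (Core.solvable_of_le hq hQ le_rfl) hN₀Q (le_top.trans_eq N₀.normalizer_eq_top.symm)
          (fun a _ y hy => Subgroup.Normal.conj_mem inferInstance y hy a)
          (fun a _ y hy => Subgroup.Normal.conj_mem inferInstance y hy a) hCQ hy
        · intro a ha
          exact hcommut a y (h1 _ ⟨a, ha, rfl⟩)
        · intro a ha
          exact hcommut a y (h2 _ ⟨a, ha, rfl⟩)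
      hCT := by
        rintro _ ⟨y, hy, rfl⟩ h1 h2
        have hTN : ∀ z, z ∈ T → z ∈ N₀ → z = 1 := by
          intro z hz hz'
          have h3 := (Subgroup.disjoint_of_coprime_natCard hTQ).eq_bot
          have h4 : z ∈ T ⊓ Q := ⟨hz, hN₀Q hz'⟩
          rw [h3, Subgroup.mem_bot] at h4
          exact h4
        have : y = 1 := by
          apply hCT y hy
          · intro a ha
            have h3 := hTN _ (T.mul_mem (hFT a ha y hy) (T.inv_mem hy)) (hcommut a y (h1 _ ⟨a, ha, rfl⟩))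
            have h4 : a * y = (a * y * a⁻¹ * y⁻¹) * (y * a) := by group
            rw [h4, h3, one_mul]
          · intro a ha
            have h3 := hTN _ (T.mul_mem (hHT a ha y hy) (T.inv_mem hy)) (hcommut a y (h2 _ ⟨a, ha, rfl⟩))
            have h4 : a * y = (a * y * a⁻¹ * y⁻¹) * (y * a) := by group
            rw [h4, h3, one_mul]
        rw [this, map_one]
      hV := by
        intro v h1 h2
        apply hV v
        · intro a ha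
          rw [← hρ₂]
          exact h1 _ ⟨a, ha, rfl⟩
        · intro a ha
          rw [← hρ₂]
          exact h2 _ ⟨a, ha, rfl⟩
      hgen := by
        rw [← Subgroup.map_sup, ← Subgroup.map_sup, ← Subgroup.map_sup, hgen]
        exact Subgroup.map_top_of_surjective π hπs
      hfaith := by
        rintro _ ⟨y, hy, rfl⟩ h
        rw [hπ1]
        refine ⟨hy, ?_⟩
        show ρ y = 1
        ext v
        exact h v
      hQT := by rw [← Subgroup.map_commutator, hQT]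
      hQ1 := by
        intro h
        rw [Subgroup.map_eq_bot_iff, hπk] at h
        obtain ⟨y, hy, hy1⟩ := hne
        exact hy1 (h hy).2
      hminT := by
        intro T₁ hT₁ hne₁ h1 h2
        have h3 : ∀ y ∈ ⁅Q, T ⊓ T₁.comap π⁆, ρ y = 1 := by
          apply hminT _ inf_le_left
          · intro h
            apply hne₁
            apply le_antisymm hT₁
            rintro _ ⟨y, hy, rfl⟩
            rw [← h] at hy
            exact hy.2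
          · rintro a ha y ⟨hy, hy'⟩
            refine ⟨hFT a ha y hy, ?_⟩
            show π (a * y * a⁻¹) ∈ T₁
            rw [map_mul, map_mul, map_inv]
            exact h1 _ ⟨a, ha, rfl⟩ _ hy'
          · rintro a ha y ⟨hy, hy'⟩
            refine ⟨hHT a ha y hy, ?_⟩
            show π (a * y * a⁻¹) ∈ T₁
            rw [map_mul, map_mul, map_inv]
            exact h2 _ ⟨a, ha, rfl⟩ _ hy'
        intro x hx
        obtain ⟨x', hx', rfl⟩ := hT₁ hx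
        rw [Subgroup.mem_centralizer_iff]
        rintro _ ⟨y, hy, rfl⟩
        have h4 : y * x' * y⁻¹ * x'⁻¹ ∈ N₀ := by
          refine ⟨?_, h3 _ (Subgroup.commutator_mem_commutator (H₁ := Q) (H₂ := T ⊓ T₁.comap π)
            hy ⟨hx', hx⟩)⟩
          exact (Subgroup.commutator_le_left Q ⊤)
            (Subgroup.commutator_mem_commutator (H₁ := Q) (H₂ := ⊤) hy trivial)
        rw [← hπ1, map_mul, map_mul, map_mul, map_inv, map_inv, mul_inv_eq_one,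
          mul_inv_eq_iff_eq_mul] at h4
        exact h4
      hminQ := by
        intro Q₁ hQ₁ hne₁ hQ₁n
        have h3 : ∀ y ∈ ⁅Q ⊓ Q₁.comap π, T⁆, ρ y = 1 := by
          apply hminQ _ inf_le_left
          · intro h
            apply hne₁
            apply le_antisymm hQ₁
            rintro _ ⟨y, hy, rfl⟩
            rw [← h] at hy
            exact hy.2
          · have := Subgroup.Normal.comap hQ₁n π
            infer_instance
        rintro _ ⟨x, hx, rfl⟩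
        rw [Subgroup.mem_centralizer_iff]
        intro y hy
        obtain ⟨y', hy', rfl⟩ := hQ₁ hy
        have h4 : y' * x * y'⁻¹ * x⁻¹ ∈ N₀ := by
          refine ⟨?_, h3 _ (Subgroup.commutator_mem_commutator (H₁ := Q ⊓ Q₁.comap π) (H₂ := T)
            ⟨hy', hy⟩ hx)⟩
          exact (Subgroup.commutator_le_left Q ⊤)
            (Subgroup.commutator_mem_commutator (H₁ := Q) (H₂ := ⊤) hy' trivial)
        rw [← hπ1, map_mul, map_mul, map_mul, map_inv, map_inv, mul_inv_eq_one,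
          mul_inv_eq_iff_eq_mul] at h4
        exact h4 }
  exact c.false_of_core

theorem card_lt {Γ : Type*} [Group Γ] [Finite Γ] {A B : Subgroup Γ} (h : A ≤ B) (hne : A ≠ B) :
    Nat.card A < Nat.card B := by
  apply lt_of_le_of_ne (Subgroup.card_le_of_le h)
  intro h1
  exact hne (Subgroup.eq_of_le_of_card_ge h h1.ge)

/-- reduction to the case where `Γ = Q T F H` -/
theorem red2 {k : Type*} [Field k] [IsAlgClosed k] {Γ : Type*} [Group Γ] [Finite Γ] {V : Type*}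
    [AddCommGroup V] [Module k V] [FiniteDimensional k V]
    (ρ : Representation k Γ V) (Q T F H : Subgroup Γ) {q t : ℕ}
    (hq : q.Prime) (ht : t.Prime) (hqt : q ≠ t) (hQ : IsPGroup q Q) (hT : IsPGroup t T)
    (hF : (Nat.card F).Prime) (hH : (Nat.card H).Prime) (hef : Nat.card H ∣ Nat.card F - 1)
    (hHF : ∀ h ∈ H, ∀ a ∈ F, h * a * h⁻¹ ∈ F) (hTQ : ∀ a ∈ T, ∀ y ∈ Q, a * y * a⁻¹ ∈ Q)
    (hFQ : ∀ a ∈ F, ∀ y ∈ Q, a * y * a⁻¹ ∈ Q) (hHQ : ∀ a ∈ H, ∀ y ∈ Q, a * y * a⁻¹ ∈ Q)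
    (hFT : ∀ a ∈ F, ∀ y ∈ T, a * y * a⁻¹ ∈ T)
    (hHT : ∀ a ∈ H, ∀ y ∈ T, a * y * a⁻¹ ∈ T) (hqf : q ≠ Nat.card F) (hqe : q ≠ Nat.card H)
    (htf : t ≠ Nat.card F) (hte : t ≠ Nat.card H) (hqk : (q : k) ≠ 0) (hek : (Nat.card H : k) ≠ 0)
    (hfk : (Nat.card F : k) ≠ 0)
    (hCQ : ∀ x ∈ Q, (∀ a ∈ F, a * x = x * a) → (∀ a ∈ H, a * x = x * a) → x = 1)
    (hCT : ∀ x ∈ T, (∀ a ∈ F, a * x = x * a) → (∀ a ∈ H, a * x = x * a) → x = 1)
    (hV : ∀ v : V, (∀ a ∈ F, ρ a v = v) → (∀ a ∈ H, ρ a v = v) → v = 0)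
    (hQT : ⁅Q, T⁆ = Q)
    (hminT : ∀ T₁ : Subgroup Γ, T₁ ≤ T → T₁ ≠ T → (∀ a ∈ F, ∀ y ∈ T₁, a * y * a⁻¹ ∈ T₁) →
      (∀ a ∈ H, ∀ y ∈ T₁, a * y * a⁻¹ ∈ T₁) → ∀ y ∈ ⁅Q, T₁⁆, ρ y = 1)
    (hminQ : ∀ Q₁ : Subgroup Γ, Q₁ ≤ Q → Q₁ ≠ Q → (∀ a ∈ T, ∀ y ∈ Q₁, a * y * a⁻¹ ∈ Q₁) →
      (∀ a ∈ F, ∀ y ∈ Q₁, a * y * a⁻¹ ∈ Q₁) → (∀ a ∈ H, ∀ y ∈ Q₁, a * y * a⁻¹ ∈ Q₁) →
      ∀ y ∈ ⁅Q₁, T⁆, ρ y = 1)
    (hne : ∃ y ∈ Q, ρ y ≠ 1) : False := by
  set Γ₁ : Subgroup Γ := Q ⊔ (T ⊔ (F ⊔ H)) with hΓ₁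
  have hQΓ : Q ≤ Γ₁ := le_sup_left
  have hTΓ : T ≤ Γ₁ := le_sup_left.trans le_sup_right
  have hFΓ : F ≤ Γ₁ := (le_sup_left.trans le_sup_right).trans le_sup_right
  have hHΓ : H ≤ Γ₁ := (le_sup_right.trans le_sup_right).trans le_sup_right
  have hc : ∀ A : Subgroup Γ, A ≤ Γ₁ → Nat.card (A.subgroupOf Γ₁) = Nat.card A :=
    fun A hA => Nat.card_congr (Subgroup.subgroupOfEquivOfLe hA).toEquiv
  have hm : ∀ A : Subgroup Γ, A ≤ Γ₁ → (A.subgroupOf Γ₁).map Γ₁.subtype = A := by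
    intro A hA
    rw [Subgroup.subgroupOf_map_subtype, inf_eq_left.2 hA]
  have hp : ∀ (p : ℕ) (A : Subgroup Γ), A ≤ Γ₁ → IsPGroup p A → IsPGroup p (A.subgroupOf Γ₁) :=
    fun p A hA h => h.of_injective (Subgroup.subgroupOfEquivOfLe hA).toMonoidHom
      (Subgroup.subgroupOfEquivOfLe hA).injective
  have hQn : (Q.subgroupOf Γ₁).Normal := by
    apply Subgroup.normal_subgroupOf_of_le_normalizer
    apply sup_le Subgroup.le_normalizer
    exact sup_le (le_normalizer_of_conj hTQ) (sup_le (le_normalizer_of_conj hFQ) (le_normalizer_of_conj hHQ))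
  have hsub : ∀ A B : Subgroup Γ, A ≤ Γ₁ → B ≤ Γ₁ →
      (A ⊔ B).subgroupOf Γ₁ = A.subgroupOf Γ₁ ⊔ B.subgroupOf Γ₁ := by
    intro A B hA hB
    exact Subgroup.subgroupOf_sup hA hB
  refine red1 (ρ.comp Γ₁.subtype) (Q.subgroupOf Γ₁) (T.subgroupOf Γ₁) (F.subgroupOf Γ₁) (H.subgroupOf Γ₁)
    hq ht hqt (hp q Q hQΓ hQ) (hp t T hTΓ hT) (by rw [hc F hFΓ]; exact hF) (by rw [hc H hHΓ]; exact hH)
    (by rw [hc F hFΓ, hc H hHΓ]; exact hef) (fun h hh a ha => hHF h hh a ha)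
    (fun h hh a ha => hFT h hh a ha) (fun h hh a ha => hHT h hh a ha) (by rw [hc F hFΓ]; exact hqf)
    (by rw [hc H hHΓ]; exact hqe) (by rw [hc F hFΓ]; exact htf) (by rw [hc H hHΓ]; exact hte) hqk
    (by rw [hc H hHΓ]; exact hek) (by rw [hc F hFΓ]; exact hfk) ?_ ?_ ?_ ?_ ?_ ?_ ?_ ?_
  · rintro ⟨x, hx⟩ hxQ h1 h2
    apply Subtype.ext
    apply hCQ x hxQ
    · intro a ha
      exact congrArg Subtype.val (h1 ⟨a, hFΓ ha⟩ ha)
    · intro a ha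
      exact congrArg Subtype.val (h2 ⟨a, hHΓ ha⟩ ha)
  · rintro ⟨x, hx⟩ hxQ h1 h2
    apply Subtype.ext
    apply hCT x hxQ
    · intro a ha
      exact congrArg Subtype.val (h1 ⟨a, hFΓ ha⟩ ha)
    · intro a ha
      exact congrArg Subtype.val (h2 ⟨a, hHΓ ha⟩ ha)
  · intro v h1 h2
    apply hV v
    · intro a ha
      exact h1 ⟨a, hFΓ ha⟩ ha
    · intro a ha
      exact h2 ⟨a, hHΓ ha⟩ ha
  · rw [← hsub F H hFΓ hHΓ, ← hsub T (F ⊔ H) hTΓ (sup_le hFΓ hHΓ),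
      ← hsub Q (T ⊔ (F ⊔ H)) hQΓ (sup_le hTΓ (sup_le hFΓ hHΓ))]
    exact Subgroup.subgroupOf_self Γ₁
  · rw [← Subgroup.map_subtype_inj, Subgroup.map_commutator, hm Q hQΓ, hm T hTΓ]
    exact hQT
  · intro T₁ hT₁ hne₁ h1 h2 y hy
    have h3 : ∀ z ∈ ⁅Q, T₁.map Γ₁.subtype⁆, ρ z = 1 := by
      apply hminT
      · rw [← hm T hTΓ]; exact Subgroup.map_mono hT₁
      · intro h
        apply hne₁
        rw [← Subgroup.map_subtype_inj, hm T hTΓ]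
        exact h
      · rintro a ha _ ⟨u, hu, rfl⟩
        exact ⟨⟨a, hFΓ ha⟩ * u * ⟨a, hFΓ ha⟩⁻¹, h1 ⟨a, hFΓ ha⟩ ha u hu, rfl⟩
      · rintro a ha _ ⟨u, hu, rfl⟩
        exact ⟨⟨a, hHΓ ha⟩ * u * ⟨a, hHΓ ha⟩⁻¹, h2 ⟨a, hHΓ ha⟩ ha u hu, rfl⟩
    show ρ (y : Γ) = 1
    apply h3
    rw [← hm Q hQΓ, ← Subgroup.map_commutator]
    exact ⟨y, hy, rfl⟩
  · intro Q₁ hQ₁ hne₁ hQ₁n y hy
    have h3 : ∀ z ∈ ⁅Q₁.map Γ₁.subtype, T⁆, ρ z = 1 := by
      apply hminQ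
      · rw [← hm Q hQΓ]; exact Subgroup.map_mono hQ₁
      · intro h
        apply hne₁
        rw [← Subgroup.map_subtype_inj, hm Q hQΓ]
        exact h
      · rintro a ha _ ⟨u, hu, rfl⟩
        exact ⟨⟨a, hTΓ ha⟩ * u * ⟨a, hTΓ ha⟩⁻¹, hQ₁n.conj_mem u hu _, rfl⟩
      · rintro a ha _ ⟨u, hu, rfl⟩
        exact ⟨⟨a, hFΓ ha⟩ * u * ⟨a, hFΓ ha⟩⁻¹, hQ₁n.conj_mem u hu _, rfl⟩
      · rintro a ha _ ⟨u, hu, rfl⟩
        exact ⟨⟨a, hHΓ ha⟩ * u * ⟨a, hHΓ ha⟩⁻¹, hQ₁n.conj_mem u hu _, rfl⟩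
    show ρ (y : Γ) = 1
    apply h3
    rw [← hm T hTΓ, ← Subgroup.map_commutator]
    exact ⟨y, hy, rfl⟩
  · obtain ⟨y, hy, hy1⟩ := hne
    exact ⟨⟨y, hQΓ hy⟩, hy, hy1⟩

theorem conj_commutator {Γ : Type*} [Group Γ] {A B : Subgroup Γ} {h : Γ} (hA : ∀ y ∈ A, h * y * h⁻¹ ∈ A)
    (hB : ∀ y ∈ B, h * y * h⁻¹ ∈ B) : ∀ y ∈ ⁅A, B⁆, h * y * h⁻¹ ∈ ⁅A, B⁆ := by
  have h1 : ⁅A, B⁆ ≤ (⁅A, B⁆).comap (MulAut.conj h).toMonoidHom := by
    rw [Subgroup.commutator_le]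
    intro a ha b hb
    show h * (a * b * a⁻¹ * b⁻¹) * h⁻¹ ∈ ⁅A, B⁆
    have h2 : h * (a * b * a⁻¹ * b⁻¹) * h⁻¹ =
        (h * a * h⁻¹) * (h * b * h⁻¹) * (h * a * h⁻¹)⁻¹ * (h * b * h⁻¹)⁻¹ := by group
    rw [h2]
    exact Subgroup.commutator_mem_commutator (hA a ha) (hB b hb)
  intro y hy
  exact h1 hy

/-- **Theorem R.** -/
theorem thmR {k : Type*} [Field k] [IsAlgClosed k] {Γ : Type*} [Group Γ] [Finite Γ] {V : Type*}
    [AddCommGroup V] [Module k V] [FiniteDimensional k V]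
    (ρ : Representation k Γ V) (F H : Subgroup Γ) {q t : ℕ}
    (hq : q.Prime) (ht : t.Prime) (hqt : q ≠ t)
    (hF : (Nat.card F).Prime) (hH : (Nat.card H).Prime) (hef : Nat.card H ∣ Nat.card F - 1)
    (hHF : ∀ h ∈ H, ∀ a ∈ F, h * a * h⁻¹ ∈ F) (hqf : q ≠ Nat.card F) (hqe : q ≠ Nat.card H)
    (htf : t ≠ Nat.card F) (hte : t ≠ Nat.card H) (hqk : (q : k) ≠ 0) (hek : (Nat.card H : k) ≠ 0)
    (hfk : (Nat.card F : k) ≠ 0)
    (hV : ∀ v : V, (∀ a ∈ F, ρ a v = v) → (∀ a ∈ H, ρ a v = v) → v = 0) :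
    ∀ n : ℕ, ∀ Q T : Subgroup Γ, Nat.card Q + Nat.card T ≤ n → IsPGroup q Q → IsPGroup t T →
    (∀ a ∈ T, ∀ y ∈ Q, a * y * a⁻¹ ∈ Q) →
    (∀ a ∈ F, ∀ y ∈ Q, a * y * a⁻¹ ∈ Q) → (∀ a ∈ H, ∀ y ∈ Q, a * y * a⁻¹ ∈ Q) →
    (∀ a ∈ F, ∀ y ∈ T, a * y * a⁻¹ ∈ T) → (∀ a ∈ H, ∀ y ∈ T, a * y * a⁻¹ ∈ T) →
    (∀ x ∈ Q, (∀ a ∈ F, a * x = x * a) → (∀ a ∈ H, a * x = x * a) → x = 1) →
    (∀ x ∈ T, (∀ a ∈ F, a * x = x * a) → (∀ a ∈ H, a * x = x * a) → x = 1) →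
    ∀ y ∈ ⁅Q, T⁆, ρ y = 1 := by
  intro n
  induction n with
  | zero =>
    intro Q T hn
    have := Nat.card_pos (α := Q)
    omega
  | succ n ih =>
    intro Q T hn hQ hT hTQ hFQ hHQ hFT hHT hCQ hCT
    by_contra hcon
    push Not at hcon
    have : Fact q.Prime := ⟨hq⟩
    have : Fact t.Prime := ⟨ht⟩
    have hcop : (Nat.card T).Coprime (Nat.card Q) := IsPGroup.coprime_card_of_ne t q hqt.symm T Q hT hQ
    have hTn : T ≤ Subgroup.normalizer (Q : Set Γ) := le_normalizer_of_conj hTQ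
    have hQTQ : ⁅Q, T⁆ ≤ Q := Cfsg.Agent.Lib.CoprimeCommutator.commutator_le_left hTn
    have hQT : ⁅Q, T⁆ = Q := by
      by_contra hne
      have h1 := ih ⁅Q, T⁆ T (by have := card_lt hQTQ hne; omega) (hQ.to_le hQTQ) hT
        (fun a ha => conj_commutator (hTQ a ha) (fun y hy => T.mul_mem (T.mul_mem ha hy) (T.inv_mem ha)))
        (fun a ha => conj_commutator (hFQ a ha) (hFT a ha))
        (fun a ha => conj_commutator (hHQ a ha) (hHT a ha)) hFT hHT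
        (fun x hx => hCQ x (hQTQ hx)) hCT
      rw [Cfsg.Agent.Lib.CoprimeCommutator.commutator_commutator_eq T Q hTn hcop] at h1
      obtain ⟨y, hy, hy1⟩ := hcon
      exact hy1 (h1 y hy)
    refine red2 ρ Q T F H hq ht hqt hQ hT hF hH hef hHF hTQ hFQ hHQ hFT hHT hqf hqe htf hte hqk hek hfk
      hCQ hCT hV hQT ?_ ?_ ?_
    · intro T₁ hT₁ hne₁ h1 h2
      exact ih Q T₁ (by have := card_lt hT₁ hne₁; omega) hQ (hT.to_le hT₁) (fun a ha => hTQ a (hT₁ ha))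
        hFQ hHQ h1 h2 hCQ (fun x hx => hCT x (hT₁ hx))
    · intro Q₁ hQ₁ hne₁ h0 h1 h2
      exact ih Q₁ T (by have := card_lt hQ₁ hne₁; omega) (hQ.to_le hQ₁) hT h0 h1 h2 hFT hHT
        (fun x hx => hCQ x (hQ₁ hx)) hCT
    · obtain ⟨y, hy, hy1⟩ := hcon
      rw [hQT] at hy
      exact ⟨y, hy, hy1⟩

open Cfsg.Agent.OddOrderLocal.Thm34 in
/-- base change of "no fixed vectors" -/
theorem no_fixed_bc {k : Type*} [Field k] (k' : Type*) [Field k'] [Algebra k k'] {Γ : Type*} [Group Γ]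
    [Finite Γ] {V : Type*} [AddCommGroup V] [Module k V] (ρ : Representation k Γ V) (F H : Subgroup Γ)
    (hn : (Nat.card (F ⊔ H : Subgroup Γ) : k) ≠ 0)
    (hV : ∀ v : V, (∀ a ∈ F, ρ a v = v) → (∀ a ∈ H, ρ a v = v) → v = 0) :
    ∀ v, (∀ a ∈ F, bc k' ρ a v = v) → (∀ a ∈ H, bc k' ρ a v = v) → v = 0 := by
  classical
  set A : Subgroup Γ := F ⊔ H with hA
  have := Fintype.ofFinite A
  have hFA : F ≤ A := le_sup_left
  have hHA : H ≤ A := le_sup_right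
  have hsum : ∑ a : A, ρ (a : Γ) = 0 := by
    ext v
    have hs : ∀ b ∈ A, ρ b ((∑ a : A, ρ (a : Γ)) v) = (∑ a : A, ρ (a : Γ)) v := by
      intro b hb
      rw [LinearMap.sum_apply, map_sum]
      apply Fintype.sum_equiv (Equiv.mulLeft (⟨b, hb⟩ : A))
      intro c
      rw [Equiv.coe_mulLeft, Subgroup.coe_mul, map_mul, Module.End.mul_apply]
    exact hV _ (fun a ha => hs a (hFA ha)) (fun a ha => hs a (hHA ha))
  have hsum' : ∑ a : A, bc k' ρ (a : Γ) = 0 := by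
    have h1 := congrArg (Module.End.baseChangeHom k k' V) hsum
    rw [map_sum, map_zero] at h1
    exact h1
  intro w hF hH
  have h0 : ∀ a ∈ A, bc k' ρ a w = w := by
    let K : Subgroup Γ :=
      { carrier := {g | bc k' ρ g w = w}
        mul_mem' := by
          intro a b ha hb
          show bc k' ρ (a * b) w = w
          rw [map_mul, Module.End.mul_apply]
          have ha' : bc k' ρ a w = w := ha
          have hb' : bc k' ρ b w = w := hb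
          rw [hb', ha']
        one_mem' := by
          show bc k' ρ 1 w = w
          rw [map_one, Module.End.one_apply]
        inv_mem' := by
          intro a ha
          have ha' : bc k' ρ a w = w := ha
          show bc k' ρ a⁻¹ w = w
          conv_lhs => rw [← ha']
          rw [← Module.End.mul_apply, ← map_mul, inv_mul_cancel, map_one, Module.End.one_apply] }
    have h1 : A ≤ K := sup_le (fun a ha => hF a ha) (fun a ha => hH a ha)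
    exact fun a ha => h1 ha
  have h1 := LinearMap.congr_fun hsum' w
  rw [LinearMap.sum_apply] at h1
  have h2 : ∀ a : A, bc k' ρ (a : Γ) w = w := fun a => h0 a a.2
  simp only [h2, Finset.sum_const, Finset.card_univ, LinearMap.zero_apply] at h1
  rw [← Nat.card_eq_fintype_card, ← Nat.cast_smul_eq_nsmul k'] at h1
  rcases smul_eq_zero.1 h1 with h3 | h3
  · exfalso
    apply hn
    have h4 : algebraMap k k' (Nat.card A : k) = 0 := by rw [map_natCast, h3]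
    exact (map_eq_zero _).1 h4
  · exact h3

open Cfsg.Agent.OddOrderLocal.Thm34 in
/-- **Theorem R** over an arbitrary field. -/
theorem thmR_field {k : Type*} [Field k] {Γ : Type*} [Group Γ] [Finite Γ] {V : Type*}
    [AddCommGroup V] [Module k V] [FiniteDimensional k V]
    (ρ : Representation k Γ V) (Q T F H : Subgroup Γ) {q t : ℕ}
    (hq : q.Prime) (ht : t.Prime) (hqt : q ≠ t)
    (hF : (Nat.card F).Prime) (hH : (Nat.card H).Prime) (hef : Nat.card H ∣ Nat.card F - 1)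
    (hHF : ∀ h ∈ H, ∀ a ∈ F, h * a * h⁻¹ ∈ F) (hqf : q ≠ Nat.card F) (hqe : q ≠ Nat.card H)
    (htf : t ≠ Nat.card F) (hte : t ≠ Nat.card H) (hqk : (q : k) ≠ 0) (hek : (Nat.card H : k) ≠ 0)
    (hfk : (Nat.card F : k) ≠ 0)
    (hQ : IsPGroup q Q) (hT : IsPGroup t T) (hTQ : ∀ a ∈ T, ∀ y ∈ Q, a * y * a⁻¹ ∈ Q)
    (hFQ : ∀ a ∈ F, ∀ y ∈ Q, a * y * a⁻¹ ∈ Q) (hHQ : ∀ a ∈ H, ∀ y ∈ Q, a * y * a⁻¹ ∈ Q)
    (hFT : ∀ a ∈ F, ∀ y ∈ T, a * y * a⁻¹ ∈ T) (hHT : ∀ a ∈ H, ∀ y ∈ T, a * y * a⁻¹ ∈ T)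
    (hCQ : ∀ x ∈ Q, (∀ a ∈ F, a * x = x * a) → (∀ a ∈ H, a * x = x * a) → x = 1)
    (hCT : ∀ x ∈ T, (∀ a ∈ F, a * x = x * a) → (∀ a ∈ H, a * x = x * a) → x = 1)
    (hV : ∀ v : V, (∀ a ∈ F, ρ a v = v) → (∀ a ∈ H, ρ a v = v) → v = 0) :
    ∀ y ∈ ⁅Q, T⁆, ρ y = 1 := by
  have hcast : ∀ n : ℕ, (n : k) ≠ 0 → (n : AlgebraicClosure k) ≠ 0 := by
    intro n hn h
    apply hn
    have h1 : algebraMap k (AlgebraicClosure k) (n : k) = 0 := by rw [map_natCast, h]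
    exact (map_eq_zero _).1 h1
  have hcard : (Nat.card (F ⊔ H : Subgroup Γ) : k) ≠ 0 := by
    intro h
    have hc : Nat.card (H ⊔ F : Subgroup Γ) ∣ Nat.card H * Nat.card F :=
      Cfsg.Agent.OddOrderLocal.DecompBasic.card_sup_dvd (le_normalizer_of_conj hHF)
    rw [sup_comm] at h
    obtain ⟨m, hm⟩ := hc
    have h1 : ((Nat.card H * Nat.card F : ℕ) : k) = 0 := by rw [hm, Nat.cast_mul, h, zero_mul]
    rw [Nat.cast_mul] at h1
    rcases mul_eq_zero.1 h1 with h1 | h1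
    · exact hek h1
    · exact hfk h1
  have hV' := no_fixed_bc (AlgebraicClosure k) ρ F H hcard hV
  intro y hy
  have h1 := thmR (bc (AlgebraicClosure k) ρ) F H hq ht hqt hF hH hef hHF hqf hqe htf hte
    (hcast _ hqk) (hcast _ hek) (hcast _ hfk) hV' _ Q T le_rfl hQ hT hTQ hFQ hHQ
    hFT hHT hCQ hCT y hy
  have h2 : bc (AlgebraicClosure k) ρ y = bc (AlgebraicClosure k) ρ 1 := by rw [h1, map_one]
  rw [eq_of_bc h2, map_one]

open Cfsg.Agent.OddOrderLocal.Thm34 in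
/-- **Theorem R** for an action on an elementary abelian group. -/
theorem thmR_elem {Γ : Type*} [Group Γ] [Finite Γ] {M : Type*} [CommGroup M] [Finite M] (r : ℕ)
    [hr : Fact r.Prime] (hM : ∀ m : M, m ^ r = 1) (φ : Γ →* MulAut M) (Q T F H : Subgroup Γ) {q t : ℕ}
    (hq : q.Prime) (ht : t.Prime) (hqt : q ≠ t)
    (hF : (Nat.card F).Prime) (hH : (Nat.card H).Prime) (hef : Nat.card H ∣ Nat.card F - 1)
    (hHF : ∀ h ∈ H, ∀ a ∈ F, h * a * h⁻¹ ∈ F) (hqf : q ≠ Nat.card F) (hqe : q ≠ Nat.card H)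
    (htf : t ≠ Nat.card F) (hte : t ≠ Nat.card H) (hqr : q ≠ r) (her : Nat.card H ≠ r)
    (hfr : Nat.card F ≠ r)
    (hQ : IsPGroup q Q) (hT : IsPGroup t T) (hTQ : ∀ a ∈ T, ∀ y ∈ Q, a * y * a⁻¹ ∈ Q)
    (hFQ : ∀ a ∈ F, ∀ y ∈ Q, a * y * a⁻¹ ∈ Q) (hHQ : ∀ a ∈ H, ∀ y ∈ Q, a * y * a⁻¹ ∈ Q)
    (hFT : ∀ a ∈ F, ∀ y ∈ T, a * y * a⁻¹ ∈ T) (hHT : ∀ a ∈ H, ∀ y ∈ T, a * y * a⁻¹ ∈ T)
    (hCQ : ∀ x ∈ Q, (∀ a ∈ F, a * x = x * a) → (∀ a ∈ H, a * x = x * a) → x = 1)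
    (hCT : ∀ x ∈ T, (∀ a ∈ F, a * x = x * a) → (∀ a ∈ H, a * x = x * a) → x = 1)
    (hV : ∀ m : M, (∀ a ∈ F, φ a m = m) → (∀ a ∈ H, φ a m = m) → m = 1) :
    ∀ y ∈ ⁅Q, T⁆, ∀ m, φ y m = m := by
  let _inst : Module (ZMod r) (Additive M) := AddCommGroup.zmodModule (by
    intro a
    exact hM a.toMul)
  have hfinA : Finite (Additive M) := inferInstanceAs (Finite M)
  have hfd : FiniteDimensional (ZMod r) (Additive M) := Module.Finite.of_finite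
  have hpF : ∀ n : ℕ, ¬ r ∣ n → (n : ZMod r) ≠ 0 := by
    intro n hn h
    exact hn ((ZMod.natCast_eq_zero_iff n r).1 h)
  have hnd : ∀ {p : ℕ}, p.Prime → p ≠ r → ¬ r ∣ p := by
    intro p hp hpr h
    exact hpr ((Nat.prime_dvd_prime_iff_eq hr.out hp).1 h).symm
  intro y hy m
  have h1 := @thmR_field (ZMod r) _ Γ _ _ (Additive M) _ _inst hfd (elemRep r φ) Q T F H q t hq ht hqt hF hH
    hef hHF hqf hqe htf hte
    (hpF _ (hnd hq hqr)) (hpF _ (hnd hH her)) (hpF _ (hnd hF hfr)) hQ hT hTQ hFQ hHQ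
    hFT hHT hCQ hCT (fun v h1 h2 => hV v.toMul h1 h2) y hy
  exact LinearMap.congr_fun h1 (Additive.ofMul m)

end Cfsg.Agent.H562.FpfThm
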